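import Groth.Agent.Lib.FibreLocus.Basic
import Groth.Agent.Lib.FlatH4.NoethApprox
import Groth.Agent.Lib.FlatH4.FibreModels
import Mathlib.RingTheory.Spectrum.Prime.Chevalley

/-!
# The points where a fibre morphism has a property form a locally constructible set
-/

universe u

set_option linter.style.haveILetI false

open CategoryTheory CategoryTheory.Limits AlgebraicGeometry Topology TensorProduct

namespace Groth.Agent.FibreLocus

/-- The morphism of spectra of an algebra. -/
noncomputable abbrev specT (R S : Type u) [CommRing R] [CommRing S] [Algebra R S] :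
    Spec (CommRingCat.of S) ⟶ Spec (CommRingCat.of R) :=
  Spec.map (CommRingCat.ofHom (algebraMap R S))

theorem isPullback_specT_tensor (R A B : Type u) [CommRing R] [CommRing A] [CommRing B] [Algebra R A]
    [Algebra R B] :
    IsPullback (Spec.map (CommRingCat.ofHom
        (Algebra.TensorProduct.includeRight (R := R) (A := A) (B := B)).toRingHom))
      (specT A (A ⊗[R] B)) (specT R B) (specT R A) :=
  isPullback_SpecMap_of_isPushout _ _ _ _ (CommRingCat.isPushout_tensorProduct R A B).flip

theorem isPullback_specT_pushout (B B' C : Type u) [CommRing B] [CommRing B'] [CommRing C]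
    [Algebra B B'] [Algebra B C] :
    IsPullback (Spec.map (CommRingCat.ofHom
        (Algebra.TensorProduct.includeRight (R := B) (A := B') (B := C)).toRingHom))
      (specT B' (B' ⊗[B] C)) (specT B C) (specT B B') :=
  isPullback_specT_tensor B B' C

/-- Models over noetherian rings of triangles of finitely presented algebras. -/
theorem exists_model (A B C : Type u) [CommRing A] [CommRing B] [CommRing C] [Algebra A B]
    [Algebra B C] [Algebra.FinitePresentation A B] [Algebra.FinitePresentation B C] :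
    ∃ (R B₀ C₀ : Type u) (_ : CommRing R) (_ : CommRing B₀) (_ : CommRing C₀) (_ : Algebra R B₀)
      (_ : Algebra B₀ C₀) (qA : Spec (CommRingCat.of A) ⟶ Spec (CommRingCat.of R))
      (qB : Spec (CommRingCat.of B) ⟶ Spec (CommRingCat.of B₀))
      (qC : Spec (CommRingCat.of C) ⟶ Spec (CommRingCat.of C₀)),
      IsNoetherianRing R ∧ Algebra.FinitePresentation R B₀ ∧ Algebra.FinitePresentation B₀ C₀ ∧
        IsPullback qB (specT A B) (specT R B₀) qA ∧ IsPullback qC (specT B C) (specT B₀ C₀) qB := by
  classical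
  obtain ⟨R, B₀, _, _, _, _, hR, hB₀, ⟨e⟩⟩ := FlatH4.exists_approx A B
  haveI : IsNoetherianRing R := Algebra.FiniteType.isNoetherianRing ℤ R
  let P := Algebra.Presentation.ofFinitePresentation B C
  obtain ⟨A', hA', hcoef⟩ := FlatH4.exists_subalgebra_subset_range e P.finite_coeffs.toFinset
  haveI : Algebra.FiniteType R A' := A'.fg_iff_finiteType.1 hA'
  haveI : IsNoetherianRing A' := Algebra.FiniteType.isNoetherianRing R A'
  let B₁ := A' ⊗[R] B₀
  letI : Algebra R B := ((algebraMap A B).comp (algebraMap R A)).toAlgebra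
  haveI : IsScalarTower R A B := IsScalarTower.of_algebraMap_eq fun _ => rfl
  let ψ : B₁ →ₐ[R] B :=
    (e.toAlgHom.restrictScalars R).comp (Algebra.TensorProduct.map A'.val (AlgHom.id R B₀))
  letI : Algebra B₁ B := ψ.toRingHom.toAlgebra
  letI : Algebra B₁ C := ((algebraMap B C).comp ψ.toRingHom).toAlgebra
  haveI : IsScalarTower B₁ B C := IsScalarTower.of_algebraMap_eq fun _ => rfl
  haveI : P.HasCoeffs B₁ := ⟨fun x hx => by
    obtain ⟨y, hy⟩ := hcoef x (P.finite_coeffs.mem_toFinset.2 hx)
    refine ⟨y, ?_⟩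
    rw [← hy]
    show e (Algebra.TensorProduct.map A'.val (AlgHom.id R B₀) y) = _
    congr 1⟩
  let C₁ := P.ModelOfHasCoeffs B₁
  have h1 := FlatH4.isPullback_SpecMap_of_algEquiv e
  have h2 := isPullback_specT_tensor R A' B₀
  let qB : Spec (CommRingCat.of B) ⟶ Spec (CommRingCat.of B₁) := specT B₁ B
  have hsq : qB ≫ specT A' B₁ = specT A B ≫ specT A' A := by
    simp only [qB, specT, ← Spec.map_comp, ← CommRingCat.ofHom_comp]
    congr 2
    ext a
    show e (Algebra.TensorProduct.map A'.val (AlgHom.id R B₀) (a ⊗ₜ 1)) = algebraMap A B (a : A)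
    rw [Algebra.TensorProduct.map_tmul]
    exact e.commutes (a : A)
  have hB : IsPullback qB (specT A B) (specT A' B₁) (specT A' A) := by
    refine IsPullback.of_right ?_ hsq h2
    convert h1 using 1
    · simp only [qB, specT, ← Spec.map_comp, ← CommRingCat.ofHom_comp]
      congr 2
    · simp only [specT, ← Spec.map_comp, ← CommRingCat.ofHom_comp]
      rfl
  exact ⟨A', B₁, C₁, inferInstance, inferInstance, inferInstance, inferInstance, inferInstance, _, qB, _,
    inferInstance, inferInstance, inferInstance, hB,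
    FlatH4.isPullback_SpecMap_of_algEquiv (P.tensorModelOfHasCoeffsEquiv B₁)⟩

variable {Q : ∀ {X Y : Scheme.{u}}, (X ⟶ Y) → X → Prop}

/-- The generic constructibility input. -/
def GenConstr (Q : ∀ {X Y : Scheme.{u}}, (X ⟶ Y) → X → Prop) : Prop :=
  ∀ (R B C : Type u) [CommRing R] [CommRing B] [CommRing C] [Algebra R B] [Algebra R C] [Algebra B C]
    [IsScalarTower R B C] [IsNoetherianRing R] [IsDomain R] [Algebra.FiniteType R B]
    [Algebra.FiniteType R C],
    ∃ a : R, a ≠ 0 ∧ IsConstructible
      (fibSet Q (specT B C) (specT R B) ∩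
        {q : PrimeSpectrum C | algebraMap R C a ∉ q.asIdeal})

theorem range_eq_preimage_of_isPullback {P X Y Z : Scheme.{u}} {a : P ⟶ X} {b : P ⟶ Y} {f : X ⟶ Z}
    {g : Y ⟶ Z} (h : IsPullback a b f g) : Set.range a = f ⁻¹' Set.range g := by
  ext x
  refine ⟨?_, fun ⟨y, hy⟩ => ?_⟩
  · rintro ⟨p, rfl⟩
    exact ⟨b p, by rw [← Scheme.Hom.comp_apply, ← Scheme.Hom.comp_apply, h.w]⟩
  · obtain ⟨p, hp, -⟩ := Scheme.exists_preimage_of_isPullback h x y hy.symm
    exact ⟨p, hp⟩

theorem isConstructible_fibSet_noetherian (hQ : IsPtLocal Q) (hgen : GenConstr Q)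
    (R B C : Type u) [CommRing R] [CommRing B] [CommRing C] [Algebra R B] [Algebra R C] [Algebra B C]
    [IsScalarTower R B C] [IsNoetherianRing R] [Algebra.FiniteType R B] [Algebra.FiniteType R C] :
    IsConstructible (fibSet Q (specT B C) (specT R B)) := by
  classical
  haveI : IsNoetherianRing B := Algebra.FiniteType.isNoetherianRing R B
  haveI : IsNoetherianRing C := Algebra.FiniteType.isNoetherianRing R C
  haveI : Algebra.FiniteType B C := Algebra.FiniteType.of_restrictScalars_finiteType R B C
  haveI : Algebra.FinitePresentation B C := Algebra.FinitePresentation.of_finiteType.1 inferInstance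
  haveI : LocallyOfFinitePresentation (specT B C) :=
    (LocallyOfFinitePresentation.SpecMap_iff _).2 (RingHom.finitePresentation_algebraMap.2 inferInstance)
  let E : Set (PrimeSpectrum C) := fibSet Q (specT B C) (specT R B)
  let h : PrimeSpectrum C → PrimeSpectrum R := PrimeSpectrum.comap (algebraMap R C)
  suffices H : ∀ I : Ideal R, IsConstructible (E ∩ h ⁻¹' PrimeSpectrum.zeroLocus (I : Set R)) by
    have h0 := H ⊥
    rw [show h ⁻¹' PrimeSpectrum.zeroLocus ((⊥ : Ideal R) : Set R) = Set.univ by
      simp [PrimeSpectrum.zeroLocus_bot], Set.inter_univ] at h0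
    exact h0
  intro I
  induction I using (wellFounded_gt (α := Ideal R)).induction with
  | _ I IH =>
  by_cases hI : I.IsPrime
  swap
  · have hfin := Ideal.finite_minimalPrimes_of_isNoetherianRing R I
    have heq : h ⁻¹' PrimeSpectrum.zeroLocus (I : Set R) =
        ⋃ p ∈ I.minimalPrimes, h ⁻¹' PrimeSpectrum.zeroLocus (p : Set R) := by
      ext q
      simp only [Set.mem_preimage, PrimeSpectrum.mem_zeroLocus, Set.mem_iUnion, SetLike.coe_subset_coe]
      refine ⟨fun hq => ?_, fun ⟨p, hp, hpq⟩ => hp.1.2.trans hpq⟩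
      obtain ⟨p, hp, hpq⟩ := Ideal.exists_minimalPrimes_le hq
      exact ⟨p, hp, hpq⟩
    rw [heq, Set.inter_iUnion₂]
    refine IsConstructible.biUnion hfin fun p hp => IH p (lt_of_le_of_ne hp.1.2 ?_)
    rintro rfl
    exact hI hp.1.1
  let R' := R ⧸ I
  let B' := R' ⊗[R] B
  letI : Algebra B B' := Algebra.TensorProduct.rightAlgebra
  let C' := B' ⊗[B] C
  haveI : IsScalarTower R B B' := IsScalarTower.of_algebraMap_eq fun r => by
    show algebraMap R R' r ⊗ₜ[R] (1 : B) = (1 : R') ⊗ₜ[R] algebraMap R B r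
    rw [Algebra.algebraMap_eq_smul_one, TensorProduct.smul_tmul, ← Algebra.algebraMap_eq_smul_one]
  haveI : Algebra.FiniteType R' B' := inferInstance
  haveI : Algebra.FiniteType B' C' := inferInstance
  haveI : Algebra.FiniteType R' C' := Algebra.FiniteType.trans (S := B') inferInstance inferInstance
  let qC : Spec (CommRingCat.of C') ⟶ Spec (CommRingCat.of C) := Spec.map (CommRingCat.ofHom
    (Algebra.TensorProduct.includeRight (R := B) (A := B') (B := C)).toRingHom)
  have hY : IsPullback (specT B B') (specT R' B') (specT R B) (specT R R') := isPullback_specT_tensor R R' B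
  have hX : IsPullback qC (specT B' C') (specT B C) (specT B B') := isPullback_specT_pushout B B' C
  have hpre := fibSet_baseChange (Q := Q) (specT B C) (specT R B) hQ hY hX
  obtain ⟨a, ha, hca⟩ := hgen R' B' C'
  obtain ⟨a, rfl⟩ := Ideal.Quotient.mk_surjective a
  have haI : a ∉ I := fun h' => ha (Ideal.Quotient.eq_zero_iff_mem.2 h')
  have hsq : Spec.map (CommRingCat.ofHom (algebraMap R C)) = specT B C ≫ specT R B := by
    simp only [specT, ← Spec.map_comp, ← CommRingCat.ofHom_comp, ← IsScalarTower.algebraMap_eq]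
  have hpb := hX.paste_vert hY
  have hrange : Set.range qC = h ⁻¹' PrimeSpectrum.zeroLocus (I : Set R) := by
    rw [range_eq_preimage_of_isPullback hpb, ← hsq]
    congr 1
    show Set.range (PrimeSpectrum.comap (algebraMap R R')) = _
    rw [range_comap_of_surjective _ (algebraMap R R') Ideal.Quotient.mk_surjective]
    exact congrArg PrimeSpectrum.zeroLocus (congrArg SetLike.coe (Ideal.mk_ker (I := I)))
  haveI : LocallyOfFiniteType qC := by
    haveI : LocallyOfFiniteType (specT B B') :=
      MorphismProperty.of_isPullback hY.flip (by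
        rw [HasRingHomProperty.Spec_iff (P := @LocallyOfFiniteType)]
        exact RingHom.FiniteType.of_surjective _ Ideal.Quotient.mk_surjective)
    exact MorphismProperty.of_isPullback hX.flip ‹_›
  let iS : Semiring C' := inferInstance
  let φ' : R' →+* C' := algebraMap R' C'
  let a' : C' := φ' (Ideal.Quotient.mk I a)
  have himg : IsConstructible (qC '' (fibSet Q (specT B' C') (specT R' B') ∩
      {q : PrimeSpectrum C' | a' ∉ q.asIdeal})) := by
    refine PrimeSpectrum.isConstructible_comap_image ?_ hca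
    exact RingHom.FinitePresentation.of_finiteType.1
      ((HasRingHomProperty.Spec_iff (P := @LocallyOfFiniteType)).1 ‹LocallyOfFiniteType qC›)
  have hsub : h ⁻¹' PrimeSpectrum.zeroLocus (I : Set R) =
      (h ⁻¹' PrimeSpectrum.zeroLocus (I : Set R) ∩ {q | algebraMap R C a ∉ q.asIdeal}) ∪
        h ⁻¹' PrimeSpectrum.zeroLocus ((I ⊔ Ideal.span {a} : Ideal R) : Set R) := by
    ext q
    simp only [Set.mem_preimage, PrimeSpectrum.mem_zeroLocus, Set.mem_union, Set.mem_inter_iff,
      SetLike.coe_subset_coe, Set.mem_setOf_eq, sup_le_iff, Ideal.span_le, Set.singleton_subset_iff]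
    by_cases hqa : algebraMap R C a ∈ q.asIdeal
    · exact ⟨fun h' => Or.inr ⟨h', hqa⟩, fun h' => h'.elim (fun h'' => absurd hqa h''.2) And.left⟩
    · exact ⟨fun h' => Or.inl ⟨h', hqa⟩, fun h' => h'.elim And.left And.left⟩
  rw [hsub, Set.inter_union_distrib_left]
  refine IsConstructible.union ?_ (IH _ ?_)
  · have hcomm : a' = Algebra.TensorProduct.includeRight (R := B) (A := B') (B := C) (algebraMap R C a) := by
      rw [IsScalarTower.algebraMap_apply R B C, AlgHom.commutes]
      show algebraMap R' C' (Ideal.Quotient.mk I a) = algebraMap B C' (algebraMap R B a)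
      rw [IsScalarTower.algebraMap_apply R' B' C', IsScalarTower.algebraMap_apply B B' C',
        ← IsScalarTower.algebraMap_apply R B B', IsScalarTower.algebraMap_apply R R' B']
      rfl
    refine (congrArg IsConstructible (Set.ext fun q => ⟨?_, ?_⟩)).mp himg
    · rintro ⟨q', ⟨hqE, hqa⟩, rfl⟩
      rw [hpre] at hqE
      replace hqa : a' ∉ (show PrimeSpectrum C' from q').asIdeal := hqa
      rw [hcomm] at hqa
      exact ⟨hqE, hrange.le ⟨q', rfl⟩, hqa⟩
    · rintro ⟨hqE, hqI, hqa⟩
      obtain ⟨q', rfl⟩ := hrange.ge hqI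
      refine ⟨q', ⟨?_, ?_⟩, rfl⟩
      · rw [hpre]; exact hqE
      · show a' ∉ (show PrimeSpectrum C' from q').asIdeal
        rw [hcomm]
        exact hqa
  · exact lt_of_le_of_ne le_sup_left fun h' => haI (h'.ge (le_sup_right (a := I)
      (Ideal.mem_span_singleton_self a)))

theorem isConstructible_fibSet_affine (hQ : IsPtLocal Q) (hgen : GenConstr Q)
    (A B C : Type u) [CommRing A] [CommRing B] [CommRing C] [Algebra A B] [Algebra B C]
    [Algebra.FinitePresentation A B] [Algebra.FinitePresentation B C] :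
    IsConstructible (fibSet Q (specT B C) (specT A B)) := by
  obtain ⟨R, B₀, C₀, _, _, _, _, _, qA, qB, qC, _, _, _, hB, hC⟩ := exists_model A B C
  letI : Algebra R C₀ := ((algebraMap B₀ C₀).comp (algebraMap R B₀)).toAlgebra
  haveI : IsScalarTower R B₀ C₀ := IsScalarTower.of_algebraMap_eq fun _ => rfl
  haveI : Algebra.FinitePresentation R C₀ := Algebra.FinitePresentation.trans R B₀ C₀
  haveI : LocallyOfFinitePresentation (specT B₀ C₀) :=
    (LocallyOfFinitePresentation.SpecMap_iff _).2 (RingHom.finitePresentation_algebraMap.2 inferInstance)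
  rw [fibSet_baseChange (specT B₀ C₀) (specT R B₀) hQ hB hC]
  exact qC.isConstructible_preimage (isConstructible_fibSet_noetherian hQ hgen R B₀ C₀)

theorem isLocallyConstructible_fibSet (hQ : IsPtLocal Q) (hgen : GenConstr Q) {X Y S : Scheme.{u}}
    (f : X ⟶ Y) (g : Y ⟶ S) [LocallyOfFinitePresentation g] [LocallyOfFinitePresentation f] :
    IsLocallyConstructible (fibSet Q f g) := by
  have hloc : ∀ x : X, ∃ V : X.Opens, x ∈ V ∧
      IsLocallyConstructible ((Subtype.val : ↥(V : Set X) → X) ⁻¹' fibSet Q f g) := by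
    intro x
    obtain ⟨U, hU, hxU, -⟩ :=
      exists_isAffineOpen_mem_and_subset (X := S) (x := g (f x)) (U := ⊤) trivial
    obtain ⟨W, hW, hxW, hWU⟩ :=
      exists_isAffineOpen_mem_and_subset (X := Y) (x := f x) (U := g ⁻¹ᵁ U) hxU
    obtain ⟨V, hV, hxV, hVW⟩ :=
      exists_isAffineOpen_mem_and_subset (X := X) (x := x) (U := f ⁻¹ᵁ W) hxW
    refine ⟨V, hxV, ?_⟩
    have hfpB := g.finitePresentation_appLE hU hW hWU
    have hfpC := f.finitePresentation_appLE hW hV hVW
    algebraize [(g.appLE U W hWU).hom, (f.appLE W V hVW).hom]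
    have hc := isConstructible_fibSet_affine hQ hgen Γ(S, U) Γ(Y, W) Γ(X, V)
    let b := specT Γ(S, U) Γ(Y, W)
    let c := specT Γ(Y, W) Γ(X, V)
    haveI : LocallyOfFinitePresentation c :=
      (LocallyOfFinitePresentation.SpecMap_iff _).2 hfpC
    haveI : LocallyOfFinitePresentation b :=
      (LocallyOfFinitePresentation.SpecMap_iff _).2 hfpB
    have hb : b ≫ hU.fromSpec = hW.fromSpec ≫ g := IsAffineOpen.SpecMap_appLE_fromSpec g hU hW hWU
    have hc' : c ≫ hW.fromSpec = hV.fromSpec ≫ f := IsAffineOpen.SpecMap_appLE_fromSpec f hW hV hVW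
    have e1 : fibSet Q c b = fibSet Q c (b ≫ hU.fromSpec) :=
      (fibSet_baseChange (Q := Q) c (b ≫ hU.fromSpec) hQ (σ := hU.fromSpec) (qY := 𝟙 _) (gT := b)
        (IsPullback.of_horiz_isIso_mono ⟨by simp⟩) (qX := 𝟙 _) (fT := c)
        (IsPullback.of_horiz_isIso ⟨by simp⟩)).trans (by simp)
    rw [e1, hb, fibSet_of_openImmersion_middle g hQ hW.fromSpec c, hc',
      fibSet_comp_openImmersion f g hQ hV.fromSpec] at hc
    have h2 := hc.preimage_of_isOpenEmbedding hV.isoSpec.hom.isOpenEmbedding
    refine IsConstructible.isLocallyConstructible (X := ↥(V : Set X)) ?_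
    refine (congrArg IsConstructible (Set.ext ?_)).mp h2
    rintro ⟨y, hy⟩
    show hV.fromSpec (hV.isoSpec.hom ⟨y, hy⟩) ∈ fibSet Q f g ↔ y ∈ fibSet Q f g
    rw [← Scheme.Hom.comp_apply, IsAffineOpen.isoSpec_hom_fromSpec]
    rfl
  choose V hxV hV using hloc
  exact .of_isOpenCover (TopologicalSpace.IsOpenCover.mk (top_le_iff.1 fun x _ =>
    TopologicalSpace.Opens.mem_iSup.2 ⟨x, hxV x⟩)) hV

end Groth.Agent.FibreLocus
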