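import Groth.Agent.Lib.FibreLocus.Unr
import Mathlib.AlgebraicGeometry.Morphisms.UniversallyInjective
import Mathlib.AlgebraicGeometry.Morphisms.Etale
import Mathlib.AlgebraicGeometry.Morphisms.FlatMono
import Groth.Agent.Lib.AnPtsTop.Global

/-!
# The sets of points of the base over which a morphism is smooth, unramified or etale
-/

universe u

set_option linter.style.haveILetI false

open CategoryTheory CategoryTheory.Limits AlgebraicGeometry Topology

namespace Groth.Agent.FibreLocus

theorem isLocallyConstructible_setOf_fibre {Q : ∀ {X Y : Scheme.{u}}, (X ⟶ Y) → X → Prop}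
    {X Y S : Scheme.{u}} (f : X ⟶ Y) (g : Y ⟶ S) (hc : IsLocallyConstructible (fibSet Q f g))
    [LocallyOfFinitePresentation (f ≫ g)] [QuasiCompact (f ≫ g)] :
    IsLocallyConstructible {s : S | ∀ z, Q (pullback.snd f (g.fiberι s)) z} := by
  have : {s : S | ∀ z, Q (pullback.snd f (g.fiberι s)) z} = ((f ≫ g) '' (fibSet Q f g)ᶜ)ᶜ := by
    ext s
    rw [Set.mem_setOf_eq, forall_fibre_iff, Set.mem_compl_iff, Set.mem_image]
    refine ⟨fun h ⟨x, hx, hxs⟩ => hx (h x hxs), fun h x hxs => ?_⟩
    by_contra hx
    exact h ⟨x, hx, hxs⟩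
  rw [this]
  exact AnPtsTop.isLocallyConstructible_compl
    ((f ≫ g).isLocallyConstructible_image (AnPtsTop.isLocallyConstructible_compl hc))

theorem isLocallyConstructible_setOf_fibre_smooth {X Y S : Scheme.{u}} (f : X ⟶ Y) (g : Y ⟶ S)
    [LocallyOfFinitePresentation g] [LocallyOfFinitePresentation (f ≫ g)] [QuasiCompact (f ≫ g)] :
    IsLocallyConstructible {s : S | Smooth (pullback.snd f (g.fiberι s))} := by
  haveI := SchBasic.locallyOfFinitePresentation_of_comp f g
  simp only [← forall_smoothPt_iff]
  exact isLocallyConstructible_setOf_fibre f g (isLocallyConstructible_fibSet_smoothPt f g)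

theorem isLocallyConstructible_setOf_fibre_unramified {X Y S : Scheme.{u}} (f : X ⟶ Y) (g : Y ⟶ S)
    [LocallyOfFinitePresentation g] [LocallyOfFinitePresentation (f ≫ g)] [QuasiCompact (f ≫ g)] :
    IsLocallyConstructible {s : S | FormallyUnramified (pullback.snd f (g.fiberι s))} := by
  haveI := SchBasic.locallyOfFinitePresentation_of_comp f g
  simp only [← forall_unrPt_iff]
  exact isLocallyConstructible_setOf_fibre f g (isLocallyConstructible_fibSet_unrPt f g)

theorem etale_iff_smooth_and_formallyUnramified {X Y : Scheme.{u}} (f : X ⟶ Y) :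
    Etale f ↔ Smooth f ∧ FormallyUnramified f :=
  ⟨fun _ => ⟨inferInstance, inferInstance⟩,
    fun ⟨_, _⟩ => Etale.of_formallyUnramified_of_flat f⟩

theorem isLocallyConstructible_setOf_fibre_etale {X Y S : Scheme.{u}} (f : X ⟶ Y) (g : Y ⟶ S)
    [LocallyOfFinitePresentation g] [LocallyOfFinitePresentation (f ≫ g)] [QuasiCompact (f ≫ g)] :
    IsLocallyConstructible {s : S | Etale (pullback.snd f (g.fiberι s))} := by
  simp only [etale_iff_smooth_and_formallyUnramified]
  exact (isLocallyConstructible_setOf_fibre_smooth f g).inter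
    (isLocallyConstructible_setOf_fibre_unramified f g)

/-- The fibre of a morphism over a base point in the form of a morphism of fibres. -/
theorem fibreMap_iff (P : MorphismProperty Scheme.{u}) [P.RespectsIso] {X Y S : Scheme.{u}} (f : X ⟶ Y)
    (g : Y ⟶ S) (s : S) :
    P (pullback.lift (pullback.fst (f ≫ g) (S.fromSpecResidueField s) ≫ f)
        (pullback.snd (f ≫ g) (S.fromSpecResidueField s))
        ((Category.assoc _ _ _).trans pullback.condition) :
      pullback (f ≫ g) (S.fromSpecResidueField s) ⟶ pullback g (S.fromSpecResidueField s)) ↔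
      P (pullback.snd f (g.fiberι s)) := by
  have h : IsPullback (pullback.fst (f ≫ g) (S.fromSpecResidueField s))
      (pullback.lift (pullback.fst (f ≫ g) (S.fromSpecResidueField s) ≫ f)
        (pullback.snd (f ≫ g) (S.fromSpecResidueField s))
        ((Category.assoc _ _ _).trans pullback.condition)) f (g.fiberι s) :=
    IsPullback.of_bot (by rw [pullback.lift_snd]; exact IsPullback.of_hasPullback _ _)
      (pullback.lift_fst _ _ _).symm (IsPullback.of_hasPullback g (S.fromSpecResidueField s))
  refine Iff.trans ?_ (P.cancel_left_of_respectsIso h.isoPullback.hom _)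
  exact iff_of_eq (congrArg (fun q => P q) h.isoPullback_hom_snd.symm)

theorem mono_iff_unramified_and_universallyInjective {X Y : Scheme.{u}} (f : X ⟶ Y)
    [LocallyOfFiniteType f] : Mono f ↔ FormallyUnramified f ∧ UniversallyInjective f := by
  refine ⟨fun h => ?_, fun ⟨_, hu⟩ => ?_⟩
  · haveI : IsIso (pullback.diagonal f) := (pullback.isIso_diagonal_iff f).2 h
    exact ⟨inferInstance, (UniversallyInjective.iff_diagonal f).2 inferInstance⟩
  · haveI := (UniversallyInjective.iff_diagonal f).1 hu
    haveI : IsIso (pullback.diagonal f) :=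
      isIso_of_isOpenImmersion_of_opensRange_eq_top _
        (TopologicalSpace.Opens.ext (Set.range_eq_univ.2 (pullback.diagonal f).surjective))
    exact (pullback.isIso_diagonal_iff f).1 inferInstance

theorem isOpenImmersion_iff_etale_and_universallyInjective {X Y : Scheme.{u}} (f : X ⟶ Y) :
    IsOpenImmersion f ↔ Etale f ∧ UniversallyInjective f := by
  refine ⟨fun _ => ⟨inferInstance, ?_⟩, fun ⟨_, hu⟩ => ?_⟩
  · exact ((mono_iff_unramified_and_universallyInjective f).1 inferInstance).2
  · haveI : Mono f := (mono_iff_unramified_and_universallyInjective f).2 ⟨inferInstance, hu⟩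
    exact IsOpenImmersion.of_flat_of_mono f

theorem isIso_iff_isOpenImmersion_and_surjective {X Y : Scheme.{u}} (f : X ⟶ Y) :
    IsIso f ↔ IsOpenImmersion f ∧ Function.Surjective f.base :=
  ⟨fun _ => ⟨inferInstance, f.surjective⟩, fun ⟨_, hs⟩ =>
    isIso_of_isOpenImmersion_of_opensRange_eq_top _
      (TopologicalSpace.Opens.ext (Set.range_eq_univ.2 hs))⟩

end Groth.Agent.FibreLocus
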