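import Groth.Agent.Lib.FibreLocus.Smooth
import Mathlib.RingTheory.Kaehler.TensorProduct

/-!
# Unramifiedness at a point is a property of the fibre
-/

universe u

set_option linter.style.haveILetI false

open CategoryTheory CategoryTheory.Limits AlgebraicGeometry Topology TensorProduct

namespace Groth.Agent.FibreLocus

/-- Unramifiedness near a point. -/
def UnrPt {X Y : Scheme.{u}} (φ : X ⟶ Y) (x : X) : Prop :=
  ∃ U : X.Opens, x ∈ U ∧ FormallyUnramified (U.ι ≫ φ)

theorem unrPt_of_openImmersion {W X Y : Scheme.{u}} (j : W ⟶ X) [IsOpenImmersion j]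
    (φ : X ⟶ Y) [FormallyUnramified (j ≫ φ)] (w : W) : UnrPt φ (j w) := by
  refine ⟨j.opensRange, ⟨w, rfl⟩, ?_⟩
  rw [← Scheme.Hom.isoOpensRange_inv_comp j, Category.assoc]
  exact MorphismProperty.comp_mem @FormallyUnramified _ _ inferInstance ‹_›

theorem isPtLocal_unrPt : IsPtLocal @UnrPt.{u} where
  bc {P X Y Y' a b f g} hP z h := by
    obtain ⟨U, hzU, hU⟩ := h
    exact ⟨a ⁻¹ᵁ U, hzU, MorphismProperty.of_isPullback
      ((isPullback_morphismRestrict a U).paste_vert hP) hU⟩
  desc {P X Y Y' a b f g} hP _ _ z h := Descend.unramified_nhd_of_flat_baseChange hP z h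
  open_source {U X Y} i φ _ z := by
    constructor
    · rintro ⟨V, hzV, hV⟩
      haveI : FormallyUnramified ((V.ι ≫ i) ≫ φ) := by rw [Category.assoc]; exact hV
      exact unrPt_of_openImmersion (V.ι ≫ i) φ ⟨z, hzV⟩
    · rintro ⟨V, hzV, hV⟩
      refine ⟨i ⁻¹ᵁ V, hzV, ?_⟩
      rw [← Category.assoc, ← morphismRestrict_ι, Category.assoc]
      exact MorphismProperty.comp_mem @FormallyUnramified _ _ inferInstance hV

theorem forall_unrPt_iff {X Y : Scheme.{u}} (φ : X ⟶ Y) :
    (∀ x, UnrPt φ x) ↔ FormallyUnramified φ := by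
  refine ⟨fun h => ?_, fun _ x => ⟨⊤, trivial,
    MorphismProperty.comp_mem @FormallyUnramified _ _ inferInstance ‹_›⟩⟩
  choose V hxV hV using h
  exact (IsZariskiLocalAtSource.iff_of_openCover (P := @FormallyUnramified)
    (X.openCoverOfIsOpenCover V (TopologicalSpace.IsOpenCover.mk (top_le_iff.1 fun x _ =>
      TopologicalSpace.Opens.mem_iSup.2 ⟨x, hxV x⟩)))).2 hV

theorem unrPt_specT_iff {R S : Type u} [CommRing R] [CommRing S] [Algebra R S]
    [Algebra.FiniteType R S] (p : ↥(Spec (CommRingCat.of S))) :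
    UnrPt (specT R S) p ↔ (show PrimeSpectrum S from p) ∈ Algebra.unramifiedLocus R S := by
  let q : PrimeSpectrum S := p
  constructor
  · rintro ⟨U, hpU, hU⟩
    have h1 : ((specT R S).stalkMap p).hom.FormallyUnramified := by
      obtain ⟨w, hw⟩ : ∃ w : U.toScheme, U.ι w = p := ⟨⟨p, hpU⟩, rfl⟩
      have h2 := FormallyUnramified.stalkMap (U.ι ≫ specT R S) w
      rw [Scheme.Hom.stalkMap_comp] at h2
      rw [← hw]
      exact (RingHom.FormallyUnramified.respectsIso.cancel_right_isIso _ (U.ι.stalkMap w)).1 h2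
    replace h1 := (RingHom.FormallyUnramified.respectsIso.arrow_mk_iso_iff
      (Scheme.arrowStalkMapSpecIso _ p)).1 h1
    let Rp := Localization.AtPrime (q.asIdeal.comap (algebraMap R S))
    let r := Localization.localRingHom (q.asIdeal.comap (algebraMap R S)) q.asIdeal (algebraMap R S) rfl
    replace h1 : r.FormallyUnramified := h1
    letI : Algebra Rp (Localization.AtPrime q.asIdeal) := r.toAlgebra
    haveI : IsScalarTower R Rp (Localization.AtPrime q.asIdeal) := IsScalarTower.of_algebraMap_eq fun x => by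
      simp [r, Rp, RingHom.algebraMap_toAlgebra, Localization.localRingHom_to_map,
        IsScalarTower.algebraMap_apply R S (Localization.AtPrime q.asIdeal)]
    haveI : Algebra.FormallyUnramified R Rp :=
      .of_isLocalization (q.asIdeal.comap (algebraMap R S)).primeCompl
    haveI : Algebra.FormallyUnramified Rp (Localization.AtPrime q.asIdeal) := h1
    exact Algebra.FormallyUnramified.comp R Rp (Localization.AtPrime q.asIdeal)
  · intro h
    haveI : Algebra.IsUnramifiedAt R q.asIdeal := h
    obtain ⟨f, hf, hu⟩ := Algebra.exists_formallyUnramified_of_isUnramifiedAt (R := R) q.asIdeal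
    haveI : IsOpenImmersion (specT S (Localization.Away f)) := IsOpenImmersion.of_isLocalization f
    haveI : FormallyUnramified (specT S (Localization.Away f) ≫ specT R S) := by
      rw [← Spec.map_comp, ← CommRingCat.ofHom_comp, ← IsScalarTower.algebraMap_eq,
        HasRingHomProperty.Spec_iff (P := @FormallyUnramified)]
      exact RingHom.formallyUnramified_algebraMap.2 hu
    obtain ⟨w, hw⟩ : q ∈ Set.range (PrimeSpectrum.comap (algebraMap S (Localization.Away f))) := by
      rw [PrimeSpectrum.localization_away_comap_range (Localization.Away f) f]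
      exact hf
    have := unrPt_of_openImmersion (specT S (Localization.Away f)) (specT R S) w
    have hw' : specT S (Localization.Away f) w = p := hw
    rwa [hw'] at this

theorem unrPt_specT_of_mem_fibSet {B C : Type u} [CommRing B] [CommRing C] [Algebra B C]
    [Algebra.FinitePresentation B C] (q : ↥(Spec (CommRingCat.of C)))
    (h : q ∈ fibSet UnrPt (specT B C) (𝟙 _)) : UnrPt (specT B C) q := by
  haveI : LocallyOfFinitePresentation (specT B C) :=
    (LocallyOfFinitePresentation.SpecMap_iff _).2 (RingHom.finitePresentation_algebraMap.2 inferInstance)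
  let qq : PrimeSpectrum C := q
  let p := qq.asIdeal.comap (algebraMap B C)
  let K := p.ResidueField
  let C' := K ⊗[B] C
  letI : Algebra C C' := Algebra.TensorProduct.rightAlgebra
  have hX := isPullback_specT_tensor B K C
  obtain ⟨z, hz⟩ : q ∈ Set.range (Spec.map (CommRingCat.ofHom
      (Algebra.TensorProduct.includeRight (R := B) (A := K) (B := C)).toRingHom)) := by
    rw [range_eq_preimage_of_isPullback hX]
    refine ⟨(⊥ : PrimeSpectrum K), ?_⟩
    apply PrimeSpectrum.ext
    show (⊥ : Ideal K).comap (algebraMap B K) = p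
    exact Ideal.ker_algebraMap_residueField p
  rw [← hz, mem_fibSet_iff_of_field (specT B C) (𝟙 _) isPtLocal_unrPt K (specT B K)
    (qY := specT B K) (gK := 𝟙 _) IsPullback.of_id_fst.flip hX z] at h
  let zz : PrimeSpectrum C' := z
  replace h : zz ∈ Algebra.unramifiedLocus K C' := (unrPt_specT_iff z).1 h
  have hzq : zz.asIdeal.comap (algebraMap C C') = qq.asIdeal := congrArg PrimeSpectrum.asIdeal hz
  rw [unrPt_specT_iff, Algebra.unramifiedLocus_eq_compl_support] at *
  intro hsupp
  rw [Module.mem_support_iff_nontrivial_residueField_tensorProduct] at hsupp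
  haveI : qq.asIdeal = zz.asIdeal.under C := hzq.symm
  let L := zz.asIdeal.ResidueField
  let k := qq.asIdeal.ResidueField
  letI : Algebra k L := (Ideal.ResidueField.map qq.asIdeal zz.asIdeal (algebraMap C C') hzq.symm).toAlgebra
  haveI : IsScalarTower C k L := IsScalarTower.of_algebraMap_eq fun x => by
    rw [RingHom.algebraMap_toAlgebra, Ideal.ResidueField.map_algebraMap,
      ← IsScalarTower.algebraMap_apply C C' L]
  have h0 : Subsingleton (L ⊗[C] Ω[C⁄B]) := by
    have hΩ : Subsingleton (L ⊗[C'] Ω[C'⁄K]) := by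
      have hns : zz ∉ Module.support C' Ω[C'⁄K] := h
      refine ⟨fun a b => ?_⟩
      suffices ∀ y : L ⊗[C'] Ω[C'⁄K], y = 0 by rw [this a, this b]
      intro y
      induction y using TensorProduct.induction_on with
      | zero => rfl
      | add y₁ y₂ e₁ e₂ => rw [e₁, e₂, add_zero]
      | tmul l w =>
        obtain ⟨s, hs, hsw⟩ := Module.notMem_support_iff'.1 hns w
        have hu : IsUnit (algebraMap C' L s) := isUnit_iff_ne_zero.2 fun h0 => hs
          ((Ideal.ker_algebraMap_residueField zz.asIdeal).le (show s ∈ RingHom.ker (algebraMap C' L) from h0))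
        obtain ⟨t, ht⟩ := hu.exists_left_inv
        rw [← one_mul l, ← ht, mul_assoc, mul_comm _ l, ← mul_assoc, mul_comm (t * l), ← Algebra.smul_def,
          TensorProduct.smul_tmul, hsw, TensorProduct.tmul_zero]
    haveI : Algebra.IsPushout B K C C' := inferInstance
    exact ((AlgebraTensorModule.cancelBaseChange C C' L L Ω[C⁄B]).symm ≪≫ₗ
      TensorProduct.AlgebraTensorModule.congr (LinearEquiv.refl L L)
        (KaehlerDifferential.tensorKaehlerEquiv B K C C')).subsingleton
  haveI : Module.FaithfullyFlat k L := inferInstance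
  haveI : Subsingleton (L ⊗[k] (k ⊗[C] Ω[C⁄B])) :=
    (AlgebraTensorModule.cancelBaseChange C k L L Ω[C⁄B]).subsingleton
  exact not_nontrivial_iff_subsingleton.2 (Module.FaithfullyFlat.lTensor_reflects_triviality k L _) hsupp

theorem unrPt_of_mem_fibSet {X Y S : Scheme.{u}} (f : X ⟶ Y) (g : Y ⟶ S)
    [LocallyOfFinitePresentation f] (x : X) (h : x ∈ fibSet UnrPt f g) : UnrPt f x := by
  replace h := mem_fibSet_id isPtLocal_unrPt f g x h
  obtain ⟨W, hW, hxW, -⟩ := exists_isAffineOpen_mem_and_subset (X := Y) (x := f x) (U := ⊤) trivial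
  obtain ⟨V, hV, hxV, hVW⟩ :=
    exists_isAffineOpen_mem_and_subset (X := X) (x := x) (U := f ⁻¹ᵁ W) hxW
  have hfp := f.finitePresentation_appLE hW hV hVW
  algebraize [(f.appLE W V hVW).hom]
  let c := specT Γ(Y, W) Γ(X, V)
  haveI : LocallyOfFinitePresentation c := (LocallyOfFinitePresentation.SpecMap_iff _).2 hfp
  have hc : c ≫ hW.fromSpec = hV.fromSpec ≫ f := IsAffineOpen.SpecMap_appLE_fromSpec f hW hV hVW
  obtain ⟨q, rfl⟩ : x ∈ Set.range hV.fromSpec := by rw [hV.range_fromSpec]; exact hxV
  have h1 : q ∈ fibSet UnrPt (hV.fromSpec ≫ f) (𝟙 Y) := by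
    rw [fibSet_comp_openImmersion f (𝟙 Y) isPtLocal_unrPt hV.fromSpec]; exact h
  rw [← hc, ← fibSet_of_openImmersion_middle (𝟙 Y) isPtLocal_unrPt hW.fromSpec c] at h1
  obtain ⟨U, hqU, hU⟩ := unrPt_specT_of_mem_fibSet q (mem_fibSet_id isPtLocal_unrPt c _ q h1)
  refine (isPtLocal_unrPt.open_source hV.fromSpec f inferInstance q).1 ⟨U, hqU, ?_⟩
  rw [← hc, ← Category.assoc]
  exact MorphismProperty.comp_mem @FormallyUnramified _ _ hU inferInstance

theorem fibSet_unrPt_eq {X Y S : Scheme.{u}} (f : X ⟶ Y) (g : Y ⟶ S)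
    [LocallyOfFinitePresentation f] : fibSet UnrPt f g = {x | UnrPt f x} :=
  Set.ext fun x => ⟨unrPt_of_mem_fibSet f g x, mem_fibSet_of_pt isPtLocal_unrPt f g x⟩

theorem genConstr_unrPt : GenConstr @UnrPt.{u} := by
  intro R B C _ _ _ _ _ _ _ _ _ _ _
  haveI : IsNoetherianRing C := Algebra.FiniteType.isNoetherianRing R C
  haveI : IsNoetherianRing B := Algebra.FiniteType.isNoetherianRing R B
  haveI : Algebra.FiniteType B C := Algebra.FiniteType.of_restrictScalars_finiteType R B C
  haveI : Algebra.FinitePresentation B C := Algebra.FinitePresentation.of_finiteType.1 inferInstance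
  haveI : LocallyOfFinitePresentation (specT B C) :=
    (LocallyOfFinitePresentation.SpecMap_iff _).2 (RingHom.finitePresentation_algebraMap.2 inferInstance)
  refine ⟨1, one_ne_zero, ?_⟩
  rw [fibSet_unrPt_eq]
  refine (TopologicalSpace.NoetherianSpace.isCompact _).isConstructible
    (IsOpen.inter (X := PrimeSpectrum C) ?_ (PrimeSpectrum.basicOpen (algebraMap R C 1)).2)
  exact isOpen_iff_forall_mem_open.2 fun x ⟨U, hxU, hU⟩ => ⟨(U : Set ↥(Spec (CommRingCat.of C))), fun y hy => ⟨U, hy, hU⟩, U.2, hxU⟩

theorem isLocallyConstructible_fibSet_unrPt {X Y S : Scheme.{u}} (f : X ⟶ Y) (g : Y ⟶ S)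
    [LocallyOfFinitePresentation g] [LocallyOfFinitePresentation f] :
    IsLocallyConstructible (fibSet UnrPt f g) :=
  isLocallyConstructible_fibSet isPtLocal_unrPt genConstr_unrPt f g

end Groth.Agent.FibreLocus
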