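import Groth.Agent.Lib.FibreLocus.Constr
import Groth.Agent.Lib.FlatH4.FibreCritApps
import Groth.Agent.Lib.FlatH4.FlatLocus
import Groth.Agent.Lib.FlatH4.GenFreeMain
import Groth.Agent.Lib.FlatH4.FlatLocusScheme

/-!
# Fibrewise flatness and smoothness are constructible
-/

universe u

set_option linter.style.haveILetI false

open CategoryTheory CategoryTheory.Limits AlgebraicGeometry Topology TensorProduct

namespace Groth.Agent.FibreLocus

theorem flatPt_specT_iff {R S : Type u} [CommRing R] [CommRing S] [Algebra R S]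
    (p : ↥(Spec (CommRingCat.of S))) :
    FlatPt (specT R S) p ↔ Module.Flat R (Localization.AtPrime (show PrimeSpectrum S from p).asIdeal) := by
  let q : PrimeSpectrum S := p
  refine (RingHom.Flat.respectsIso.arrow_mk_iso_iff (Scheme.arrowStalkMapSpecIso _ p)).trans ?_
  show (Localization.localRingHom (q.asIdeal.comap (algebraMap R S)) q.asIdeal (algebraMap R S) rfl).Flat ↔
    Module.Flat R (Localization.AtPrime q.asIdeal)
  let Rp := Localization.AtPrime (q.asIdeal.comap (algebraMap R S))
  letI : Algebra Rp (Localization.AtPrime q.asIdeal) :=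
    (Localization.localRingHom (q.asIdeal.comap (algebraMap R S)) q.asIdeal (algebraMap R S) rfl).toAlgebra
  haveI : IsScalarTower R Rp (Localization.AtPrime q.asIdeal) := IsScalarTower.of_algebraMap_eq fun x => by
    simp [Rp, RingHom.algebraMap_toAlgebra, Localization.localRingHom_to_map,
      IsScalarTower.algebraMap_apply R S (Localization.AtPrime q.asIdeal)]
  exact RingHom.flat_algebraMap_iff.trans
    (Module.flat_iff_of_isLocalization Rp (q.asIdeal.comap (algebraMap R S)).primeCompl _)

theorem exists_smul_residueField {R : Type u} [CommRing R] (p : Ideal R) [p.IsPrime]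
    (k : p.ResidueField) : ∃ r ∉ p, ∃ a : R, algebraMap R p.ResidueField r * k = algebraMap R _ a := by
  obtain ⟨⟨a, ⟨r, hr⟩⟩, h⟩ := IsLocalization.surj (nonZeroDivisors (R ⧸ p)) k
  obtain ⟨a, rfl⟩ := Ideal.Quotient.mk_surjective a
  obtain ⟨r, rfl⟩ := Ideal.Quotient.mk_surjective r
  refine ⟨r, fun hrp => mem_nonZeroDivisors_iff_ne_zero.1 hr (Ideal.Quotient.eq_zero_iff_mem.2 hrp),
    a, ?_⟩
  rw [mul_comm]
  exact h

/-- Elements of a fibre ring over a residue field come from the ring up to units. -/
theorem exists_smul_tensor {R B C : Type u} [CommRing R] [CommRing B] [CommRing C] [Algebra R B]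
    [Algebra R C] [Algebra B C] [IsScalarTower R B C] (p : Ideal R) [p.IsPrime]
    (e : (B ⊗[R] p.ResidueField) ⊗[B] C) :
    ∃ r ∉ p, ∃ c : C, (1 : B ⊗[R] p.ResidueField) ⊗ₜ[B] algebraMap R C r * e = 1 ⊗ₜ[B] c := by
  induction e using TensorProduct.induction_on with
  | zero => exact ⟨1, fun h => Ideal.IsPrime.ne_top' ((Ideal.eq_top_iff_one p).2 h), 0, by simp⟩
  | add e₁ e₂ h₁ h₂ =>
    obtain ⟨r₁, hr₁, c₁, h₁⟩ := h₁
    obtain ⟨r₂, hr₂, c₂, h₂⟩ := h₂
    refine ⟨r₁ * r₂, fun h => (Ideal.IsPrime.mem_or_mem ‹p.IsPrime› h).elim hr₁ hr₂,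
      algebraMap R C r₂ * c₁ + algebraMap R C r₁ * c₂, ?_⟩
    have key : ∀ x y : C, (1 : B ⊗[R] p.ResidueField) ⊗ₜ[B] (x * y) =
        ((1 : B ⊗[R] p.ResidueField) ⊗ₜ[B] x) * ((1 : B ⊗[R] p.ResidueField) ⊗ₜ[B] y) := fun x y => by
      rw [Algebra.TensorProduct.tmul_mul_tmul, one_mul]
    rw [TensorProduct.tmul_add, map_mul, key, key, key, ← h₁, ← h₂]
    ring
  | tmul w c =>
    induction w using TensorProduct.induction_on with
    | zero => exact ⟨1, fun h => Ideal.IsPrime.ne_top' ((Ideal.eq_top_iff_one p).2 h), 0, by simp⟩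
    | add w₁ w₂ h₁ h₂ =>
      obtain ⟨r₁, hr₁, c₁, h₁⟩ := h₁
      obtain ⟨r₂, hr₂, c₂, h₂⟩ := h₂
      refine ⟨r₁ * r₂, fun h => (Ideal.IsPrime.mem_or_mem ‹p.IsPrime› h).elim hr₁ hr₂,
        algebraMap R C r₂ * c₁ + algebraMap R C r₁ * c₂, ?_⟩
      have key : ∀ x y : C, (1 : B ⊗[R] p.ResidueField) ⊗ₜ[B] (x * y) =
          ((1 : B ⊗[R] p.ResidueField) ⊗ₜ[B] x) * ((1 : B ⊗[R] p.ResidueField) ⊗ₜ[B] y) := fun x y => by
        rw [Algebra.TensorProduct.tmul_mul_tmul, one_mul]
      rw [TensorProduct.add_tmul, TensorProduct.tmul_add, map_mul, key, key, key, ← h₁, ← h₂]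
      ring
    | tmul b k =>
      obtain ⟨r, hr, a, ha⟩ := exists_smul_residueField p k
      refine ⟨r, hr, algebraMap B C b * algebraMap R C a * c, ?_⟩
      rw [Algebra.TensorProduct.tmul_mul_tmul, one_mul,
        show algebraMap B C b * algebraMap R C a * c = (b * algebraMap R B a) • c by
          rw [Algebra.smul_def, map_mul, ← IsScalarTower.algebraMap_apply],
        ← TensorProduct.smul_tmul, show algebraMap R C r * c = (algebraMap R B r) • c by
          rw [Algebra.smul_def, ← IsScalarTower.algebraMap_apply],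
        ← TensorProduct.smul_tmul]
      congr 1
      rw [Algebra.smul_def, Algebra.smul_def, Algebra.TensorProduct.algebraMap_apply,
        Algebra.TensorProduct.algebraMap_apply, mul_one, Algebra.algebraMap_self_apply,
        Algebra.algebraMap_self_apply, Algebra.TensorProduct.tmul_mul_tmul, one_mul,
        mul_comm b, ← Algebra.smul_def, ← Algebra.smul_def, TensorProduct.smul_tmul,
        TensorProduct.smul_tmul, Algebra.smul_def, Algebra.smul_def, ha, mul_one]

section FibreCrit

variable {R B C : Type u} [CommRing R] [CommRing B] [CommRing C] [Algebra R B] [Algebra R C]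
  [Algebra B C] [IsScalarTower R B C]

open Algebra.TensorProduct in
/-- The fibrewise criterion of flatness at a point of a triangle of affine schemes. -/
theorem flatPt_of_mem_fibSet [IsNoetherianRing R] [Algebra.FiniteType R B] [Algebra.FiniteType R C]
    (q : ↥(Spec (CommRingCat.of C))) (hflat : FlatPt (specT R C) q)
    (h : q ∈ fibSet FlatPt (specT B C) (specT R B)) : FlatPt (specT B C) q := by
  haveI : IsNoetherianRing B := Algebra.FiniteType.isNoetherianRing R B
  haveI : IsNoetherianRing C := Algebra.FiniteType.isNoetherianRing R C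
  haveI : Algebra.FiniteType B C := Algebra.FiniteType.of_restrictScalars_finiteType R B C
  haveI : Algebra.FinitePresentation B C := Algebra.FinitePresentation.of_finiteType.1 inferInstance
  haveI : LocallyOfFinitePresentation (specT B C) :=
    (LocallyOfFinitePresentation.SpecMap_iff _).2 (RingHom.finitePresentation_algebraMap.2 inferInstance)
  let qq : PrimeSpectrum C := q
  let p := qq.asIdeal.comap (algebraMap R C)
  let K := p.ResidueField
  let W := B ⊗[R] K
  letI : Algebra K W := Algebra.TensorProduct.rightAlgebra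
  let C' := W ⊗[B] C
  have hY : IsPullback (specT B W) (specT K W) (specT R B) (specT R K) :=
    (isPullback_SpecMap_of_isPushout _ _ _ _ (CommRingCat.isPushout_tensorProduct R B K))
  have hX : IsPullback (Spec.map (CommRingCat.ofHom
      (Algebra.TensorProduct.includeRight (R := B) (A := W) (B := C)).toRingHom))
      (specT W C') (specT B C) (specT B W) := isPullback_specT_pushout B W C
  have hsq : specT B C ≫ specT R B = specT R C := by
    simp only [specT, ← Spec.map_comp, ← CommRingCat.ofHom_comp, ← IsScalarTower.algebraMap_eq]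
  obtain ⟨z, hz⟩ : q ∈ Set.range (Spec.map (CommRingCat.ofHom
      (Algebra.TensorProduct.includeRight (R := B) (A := W) (B := C)).toRingHom)) := by
    rw [range_eq_preimage_of_isPullback (hX.paste_vert hY)]
    refine ⟨(⊥ : PrimeSpectrum K), ?_⟩
    rw [hsq]
    apply PrimeSpectrum.ext
    show (⊥ : Ideal K).comap (algebraMap R K) = p
    exact Ideal.ker_algebraMap_residueField p
  rw [← hz, mem_fibSet_iff_of_field (specT B C) (specT R B) isPtLocal_flatPt K (specT R K) hY hX z] at h
  rw [flatPt_specT_iff] at h hflat ⊢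
  let zz : PrimeSpectrum C' := z
  have hzq : zz.asIdeal.comap (Algebra.TensorProduct.includeRight (R := B) (A := W) (B := C)).toRingHom =
      qq.asIdeal := congrArg PrimeSpectrum.asIdeal hz
  let Cq := Localization.AtPrime qq.asIdeal
  let T := W ⊗[B] Cq
  letI : Algebra C' T :=
    (Algebra.TensorProduct.map (AlgHom.id W W) (IsScalarTower.toAlgHom B C Cq)).toRingHom.toAlgebra
  haveI : IsScalarTower W C' T := IsScalarTower.of_algebraMap_eq (R := W) (S := C') (A := T) fun w => by
    show w ⊗ₜ[B] (1 : Cq) = Algebra.TensorProduct.map (AlgHom.id W W) (IsScalarTower.toAlgHom B C Cq) (w ⊗ₜ[B] (1 : C))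
    simp
  letI : Algebra C C' := Algebra.TensorProduct.rightAlgebra
  haveI hloc : IsLocalization (Algebra.algebraMapSubmonoid C' qq.asIdeal.primeCompl) T :=
    IsLocalization.tensorProduct_tensorProduct_right B W qq.asIdeal.primeCompl Cq (by
      ext c
      show Algebra.TensorProduct.map (AlgHom.id W W) (IsScalarTower.toAlgHom B C Cq) ((1 : W) ⊗ₜ[B] c) = _
      simp)
  have hT : Module.Flat W T := by
    refine Module.flat_of_isLocalized_maximal (R := W) T T (fun P _ => Localization.AtPrime P)
      (fun P _ => Algebra.linearMap T (Localization.AtPrime P)) fun P _ => ?_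
    let P' := P.comap (algebraMap C' T)
    haveI : IsLocalization.AtPrime (Localization.AtPrime P) P' :=
      IsLocalization.isLocalization_isLocalization_atPrime_isLocalization
        (Algebra.algebraMapSubmonoid C' qq.asIdeal.primeCompl) _ P
    have hle : P' ≤ zz.asIdeal := by
      intro e he
      obtain ⟨r, hr, c, hc⟩ := exists_smul_tensor (B := B) (C := C) p e
      have hcP : ((1 : W) ⊗ₜ[B] c) ∈ P' := hc ▸ Ideal.mul_mem_left _ _ he
      have hcq : c ∈ qq.asIdeal := by
        by_contra hcq
        exact (inferInstance : P.IsPrime).ne_top (Ideal.eq_top_of_isUnit_mem _ hcP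
          (IsLocalization.map_units T
            (⟨(1 : W) ⊗ₜ[B] c, Submonoid.mem_map_of_mem (algebraMap C C').toMonoidHom hcq⟩ :
              Algebra.algebraMapSubmonoid C' qq.asIdeal.primeCompl)))
      have hcz : ((1 : W) ⊗ₜ[B] c) ∈ zz.asIdeal := hzq.ge hcq
      rw [← hc] at hcz
      refine ((inferInstance : zz.asIdeal.IsPrime).mem_or_mem hcz).resolve_left fun hrz => hr ?_
      exact (hzq.le hrz : algebraMap R C r ∈ qq.asIdeal)
    haveI : Module.Flat W (LocalizedModule zz.asIdeal.primeCompl C') := (FlatH4.flat_localization_iff _).2 h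
    haveI hP : Module.Flat W (Localization.AtPrime P') :=
      (FlatH4.flat_localization_iff _).1 (FlatH4.flat_localized_mono (M := C') zz.asIdeal P' hle)
    exact Module.Flat.of_linearEquiv (((IsLocalization.algEquiv P'.primeCompl (Localization.AtPrime P')
      (Localization.AtPrime P)).restrictScalars W).toLinearEquiv.symm)
  have hfib : FlatH4.FibFlat B C (p.map (algebraMap R B)) qq.asIdeal := by
    have h1 : FlatH4.FibFlat B Cq (p.map (algebraMap R B)) qq.asIdeal :=
      FlatH4.fibFlat_of_flat_fibre (A := R) (S := B) (T := C) (M := Cq) p hT qq.asIdeal le_rfl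
    intro N N' _ _ _ _ hN hN' g hg x hx
    let l : C →ₗ[C] Cq := Algebra.linearMap C Cq
    let g₁ := AlgebraTensorModule.rTensor B N l
    have hx1 : g.lTensor Cq (g₁ x) = 0 := by
      show g.lTensor Cq ((l.restrictScalars B).rTensor N x) = 0
      rw [← LinearMap.comp_apply, LinearMap.lTensor_comp_rTensor, ← LinearMap.rTensor_comp_lTensor,
        LinearMap.comp_apply, hx, map_zero]
    obtain ⟨s, hs, hsx⟩ := h1 hN hN' g hg (g₁ x) hx1
    rw [← map_smul] at hsx
    obtain ⟨t, ht⟩ := (IsLocalizedModule.eq_zero_iff qq.asIdeal.primeCompl g₁).1 hsx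
    exact ⟨(t : C) * s, fun hts => ((inferInstance : qq.asIdeal.IsPrime).mem_or_mem hts).elim t.2 hs, by
      rw [← smul_smul]; exact ht⟩
  haveI : Module.Flat R (LocalizedModule qq.asIdeal.primeCompl C) := (FlatH4.flat_localization_iff _).2 hflat
  exact (FlatH4.flat_localization_iff _).1 (FlatH4.flat_localized_of_fibFlat p qq.asIdeal
    Ideal.map_comap_le hfib)

end FibreCrit

/-- Generic flatness in scheme form. -/
theorem exists_flatPt_basicOpen (R C : Type u) [CommRing R] [CommRing C] [Algebra R C]
    [IsNoetherianRing R] [IsDomain R] [Algebra.FiniteType R C] :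
    ∃ a : R, a ≠ 0 ∧ ∀ q : ↥(Spec (CommRingCat.of C)),
      algebraMap R C a ∉ (show PrimeSpectrum C from q).asIdeal → FlatPt (specT R C) q := by
  obtain ⟨a, ha, hfree⟩ := FlatH4.exists_free_and_finitePresentation (R := R) (S := C)
  refine ⟨a, ha, fun q hq => ?_⟩
  haveI : Algebra.FinitePresentation R C := Algebra.FinitePresentation.of_finiteType.1 inferInstance
  haveI : LocallyOfFinitePresentation (specT R C) :=
    (LocallyOfFinitePresentation.SpecMap_iff _).2 (RingHom.finitePresentation_algebraMap.2 inferInstance)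
  let R' := Localization.Away a
  haveI := (hfree R' (IsLocalization.Away.algebraMap_isUnit a)).1
  haveI : Flat (specT R' (R' ⊗[R] C)) := by
    rw [HasRingHomProperty.Spec_iff (P := @Flat)]
    exact RingHom.flat_algebraMap_iff.2 inferInstance
  haveI : Flat (specT R R') := by
    rw [HasRingHomProperty.Spec_iff (P := @Flat)]
    exact RingHom.flat_algebraMap_iff.2 inferInstance
  have hsq := isPullback_specT_tensor R R' C
  obtain ⟨z, hz⟩ : q ∈ Set.range (Spec.map (CommRingCat.ofHom
      (Algebra.TensorProduct.includeRight (R := R) (A := R') (B := C)).toRingHom)) := by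
    rw [range_eq_preimage_of_isPullback hsq]
    show PrimeSpectrum.comap (algebraMap R C) (show PrimeSpectrum C from q) ∈ Set.range (PrimeSpectrum.comap (algebraMap R R'))
    rw [PrimeSpectrum.localization_away_comap_range R' a]
    exact hq
  rw [← hz]
  exact isPtLocal_flatPt.desc hsq ‹_› ‹_› z (Flat.stalkMap _ _)

theorem mem_fibSet_of_pt {Q : ∀ {X Y : Scheme.{u}}, (X ⟶ Y) → X → Prop} (hQ : IsPtLocal Q)
    {X Y S : Scheme.{u}} (f : X ⟶ Y) (g : Y ⟶ S) (x : X) (h : Q f x) : x ∈ fibSet Q f g := by
  obtain ⟨z, hz⟩ := exists_fibre_point f g x _ rfl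
  rw [mem_fibSet_iff f g z hz]
  exact hQ.bc (IsPullback.of_hasPullback f _) z (hz.symm ▸ h)

theorem genConstr_flatPt : GenConstr @FlatPt.{u} := by
  intro R B C _ _ _ _ _ _ _ _ _ _ _
  haveI : IsNoetherianRing C := Algebra.FiniteType.isNoetherianRing R C
  haveI : IsNoetherianRing B := Algebra.FiniteType.isNoetherianRing R B
  haveI : Algebra.FiniteType B C := Algebra.FiniteType.of_restrictScalars_finiteType R B C
  haveI : Algebra.FinitePresentation B C := Algebra.FinitePresentation.of_finiteType.1 inferInstance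
  haveI : LocallyOfFinitePresentation (specT B C) :=
    (LocallyOfFinitePresentation.SpecMap_iff _).2 (RingHom.finitePresentation_algebraMap.2 inferInstance)
  obtain ⟨a, ha, hfl⟩ := exists_flatPt_basicOpen R C
  refine ⟨a, ha, ?_⟩
  have heq : fibSet FlatPt (specT B C) (specT R B) ∩
      {q : PrimeSpectrum C | algebraMap R C a ∉ q.asIdeal} =
      {q : ↥(Spec (CommRingCat.of C)) | FlatPt (specT B C) q} ∩
      (PrimeSpectrum.basicOpen (algebraMap R C a) : Set (PrimeSpectrum C)) := by
    ext q
    exact ⟨fun ⟨h1, h2⟩ => ⟨flatPt_of_mem_fibSet q (hfl q h2) h1, h2⟩,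
      fun ⟨h1, h2⟩ => ⟨mem_fibSet_of_pt isPtLocal_flatPt _ _ q h1, h2⟩⟩
  rw [heq]
  exact (TopologicalSpace.NoetherianSpace.isCompact _).isConstructible
    (IsOpen.inter (X := PrimeSpectrum C) (FlatH4.isOpen_flatLocus (specT B C))
      (PrimeSpectrum.basicOpen (algebraMap R C a)).2)

end Groth.Agent.FibreLocus
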