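import Groth.Agent.Lib.Descend.BaseChangeAt

/-!
# Properties of morphisms at a point which are compatible with base change
-/

universe u

set_option linter.style.haveILetI false

open CategoryTheory CategoryTheory.Limits AlgebraicGeometry

namespace Groth.Agent.FibreLocus

/-- Flatness at a point. -/
def FlatPt {X Y : Scheme.{u}} (φ : X ⟶ Y) (x : X) : Prop := (φ.stalkMap x).hom.Flat

/-- Smoothness near a point. -/
def SmoothPt {X Y : Scheme.{u}} (φ : X ⟶ Y) (x : X) : Prop :=
  ∃ U : X.Opens, x ∈ U ∧ Smooth (U.ι ≫ φ)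

/-- A property of morphisms at a point of the source which is stable under base change, descends
along flat base change and is local on the source. -/
structure IsPtLocal (Q : ∀ {X Y : Scheme.{u}}, (X ⟶ Y) → X → Prop) : Prop where
  bc : ∀ {P X Y Y' : Scheme.{u}} {a : P ⟶ X} {b : P ⟶ Y'} {f : X ⟶ Y} {g : Y' ⟶ Y},
    IsPullback a b f g → ∀ z : P, Q f (a z) → Q b z
  desc : ∀ {P X Y Y' : Scheme.{u}} {a : P ⟶ X} {b : P ⟶ Y'} {f : X ⟶ Y} {g : Y' ⟶ Y},
    IsPullback a b f g → LocallyOfFinitePresentation f → Flat g → ∀ z : P, Q b z → Q f (a z)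
  open_source : ∀ {U X Y : Scheme.{u}} (i : U ⟶ X) (φ : X ⟶ Y), IsOpenImmersion i →
    ∀ z : U, Q (i ≫ φ) z ↔ Q φ (i z)

theorem isPtLocal_flatPt : IsPtLocal @FlatPt.{u} where
  bc {P X Y Y' a b f g} hP z h := by
    let c := X.fromSpecStalk (a z)
    haveI : Flat (c ≫ f) := by
      haveI : Flat (Spec.map (f.stalkMap (a z))) :=
        (HasRingHomProperty.Spec_iff (P := @Flat)).2 h
      haveI := Descend.flat_fromSpecStalk (f (a z))
      rw [← Scheme.SpecMap_stalkMap_fromSpecStalk]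
      infer_instance
    haveI := Descend.flat_fromSpecStalk (a z)
    obtain ⟨z', hz', -⟩ := Scheme.Pullback.exists_preimage_pullback (f := a) (g := c) z
      (IsLocalRing.closedPoint _) Scheme.fromSpecStalk_closedPoint.symm
    have h1 : IsPullback (pullback.snd a c) (pullback.fst a c ≫ b) (c ≫ f) g :=
      (IsPullback.of_hasPullback a c).flip.paste_vert hP
    haveI : Flat (pullback.fst a c ≫ b) := MorphismProperty.of_isPullback h1 ‹_›
    haveI : Flat (pullback.fst a c) := inferInstance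
    show (b.stalkMap z).hom.Flat
    rw [← hz']
    exact Descend.flat_stalkMap_of_comp (pullback.fst a c) b z' (Flat.stalkMap _ _) (Flat.stalkMap _ _)
  desc {P X Y Y' a b f g} hP _ _ z h := by
    haveI : Flat a := MorphismProperty.of_isPullback hP.flip ‹_›
    refine Descend.flat_stalkMap_of_comp a f z (Flat.stalkMap _ _) ?_
    have : ((b ≫ g).stalkMap z).hom.Flat := by
      rw [Scheme.Hom.stalkMap_comp]
      exact RingHom.Flat.comp (Flat.stalkMap g _) h
    exact hP.w ▸ this
  open_source {U X Y} i φ _ z := by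
    refine ⟨Descend.flat_stalkMap_of_comp i φ z (Flat.stalkMap i z), fun h => ?_⟩
    show ((i ≫ φ).stalkMap z).hom.Flat
    rw [Scheme.Hom.stalkMap_comp]
    exact RingHom.Flat.comp h (Flat.stalkMap i z)

theorem smoothPt_of_openImmersion {W X Y : Scheme.{u}} (j : W ⟶ X) [IsOpenImmersion j]
    (φ : X ⟶ Y) [Smooth (j ≫ φ)] (w : W) : SmoothPt φ (j w) := by
  refine ⟨j.opensRange, ⟨w, rfl⟩, ?_⟩
  rw [← Scheme.Hom.isoOpensRange_inv_comp j, Category.assoc]
  infer_instance

theorem isPtLocal_smoothPt : IsPtLocal @SmoothPt.{u} where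
  bc {P X Y Y' a b f g} hP z h := by
    obtain ⟨U, hzU, hU⟩ := h
    exact ⟨a ⁻¹ᵁ U, hzU, MorphismProperty.of_isPullback
      ((isPullback_morphismRestrict a U).paste_vert hP) hU⟩
  desc {P X Y Y' a b f g} hP _ _ z h :=
    Descend.smooth_nhd_of_baseChange_flatAt hP z (Flat.stalkMap g _) h
  open_source {U X Y} i φ _ z := by
    constructor
    · rintro ⟨V, hzV, hV⟩
      haveI : Smooth ((V.ι ≫ i) ≫ φ) := by rw [Category.assoc]; exact hV
      exact smoothPt_of_openImmersion (V.ι ≫ i) φ ⟨z, hzV⟩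
    · rintro ⟨V, hzV, hV⟩
      refine ⟨i ⁻¹ᵁ V, hzV, ?_⟩
      haveI := hV
      rw [← Category.assoc, ← morphismRestrict_ι, Category.assoc]
      infer_instance

theorem smoothPt_flatPt {X Y : Scheme.{u}} {φ : X ⟶ Y} {x : X} (h : SmoothPt φ x) : FlatPt φ x := by
  obtain ⟨U, hxU, hU⟩ := h
  exact Descend.flat_stalkMap_of_comp U.ι φ ⟨x, hxU⟩ (Flat.stalkMap _ _) (Flat.stalkMap _ _)

theorem forall_smoothPt_iff {X Y : Scheme.{u}} (φ : X ⟶ Y) :
    (∀ x, SmoothPt φ x) ↔ Smooth φ := by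
  refine ⟨fun h => ?_, fun _ x => ⟨⊤, trivial, inferInstance⟩⟩
  choose V hxV hV using h
  exact (IsZariskiLocalAtSource.iff_of_openCover (P := @Smooth)
    (X.openCoverOfIsOpenCover V (TopologicalSpace.IsOpenCover.mk (top_le_iff.1 fun x _ =>
      TopologicalSpace.Opens.mem_iSup.2 ⟨x, hxV x⟩)))).2 hV

end Groth.Agent.FibreLocus
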