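import Groth.Agent.Lib.FibreLocus.PointFibre

/-!
# Consequences of the pointwise fibre criteria
-/

universe u

set_option linter.style.haveILetI false

open CategoryTheory CategoryTheory.Limits AlgebraicGeometry Topology

namespace Groth.Agent.FibreLocus

theorem formallyUnramified_iff_fibres {X Y S : Scheme.{u}} (f : X ⟶ Y) (g : Y ⟶ S)
    [LocallyOfFinitePresentation f] :
    FormallyUnramified f ↔ ∀ s, FormallyUnramified (pullback.snd f (g.fiberι s)) := by
  refine ⟨fun h s => MorphismProperty.pullback_snd _ _ h, fun h => ?_⟩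
  rw [← forall_unrPt_iff]
  intro x
  refine unrPt_of_mem_fibSet f g x ?_
  obtain ⟨z, hz⟩ := exists_fibre_point f g x _ rfl
  rw [mem_fibSet_iff f g z hz]
  exact (forall_unrPt_iff _).2 (h _) z

/-- The fibre of a morphism as a `fibSet` over the identity. -/
theorem forall_fibSet_id_iff {Q : ∀ {X Y : Scheme.{u}}, (X ⟶ Y) → X → Prop} (hQ : IsPtLocal Q)
    {X Y : Scheme.{u}} (f : X ⟶ Y) [LocallyOfFinitePresentation f] (y : Y) :
    (∀ z, Q (f.fiberToSpecResidueField y) z) ↔ ∀ x, f x = y → x ∈ fibSet Q f (𝟙 Y) := by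
  have key : ∀ z, f.fiberι y z ∈ fibSet Q f (𝟙 Y) ↔ Q (f.fiberToSpecResidueField y) z := fun z =>
    mem_fibSet_iff_of_field f (𝟙 Y) hQ _ (Y.fromSpecResidueField y)
      (qY := Y.fromSpecResidueField y) (gK := 𝟙 _) IsPullback.of_id_fst.flip
      (IsPullback.of_hasPullback f (Y.fromSpecResidueField y)) z
  refine ⟨fun h x hx => ?_, fun h z => (key z).1 (h _ ((Scheme.Hom.range_fiberι f y).le ⟨z, rfl⟩))⟩
  obtain ⟨z, rfl⟩ : x ∈ Set.range (f.fiberι y) := by rw [Scheme.Hom.range_fiberι]; exact hx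
  exact (key z).2 (h z)

/-- For a flat morphism, smoothness of the fibre over a point. -/
theorem smooth_fiberToSpecResidueField_iff {X Y : Scheme.{u}} (f : X ⟶ Y) [Flat f]
    [LocallyOfFinitePresentation f] (y : Y) :
    Smooth (f.fiberToSpecResidueField y) ↔ ∀ x, f x = y → SmoothPt f x := by
  rw [← forall_smoothPt_iff, forall_fibSet_id_iff isPtLocal_smoothPt f y]
  exact forall₂_congr fun x _ =>
    ⟨smoothPt_of_flatPt_of_mem_fibSet f _ x (Flat.stalkMap f x),
      mem_fibSet_of_pt isPtLocal_smoothPt f _ x⟩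

theorem isOpen_setOf_smooth_fibre {X Y : Scheme.{u}} (f : X ⟶ Y) [UniversallyClosed f] [Flat f]
    [LocallyOfFinitePresentation f] : IsOpen {y : Y | Smooth (f.fiberToSpecResidueField y)} := by
  have : {y : Y | Smooth (f.fiberToSpecResidueField y)} = (f '' {x | ¬ SmoothPt f x})ᶜ := by
    ext y
    rw [Set.mem_ofPred_eq, smooth_fiberToSpecResidueField_iff]
    exact ⟨fun h ⟨x, hx, hxy⟩ => hx (h x hxy), fun h x hxy => by_contra fun hx => h ⟨x, hx, hxy⟩⟩
  rw [this, isOpen_compl_iff]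
  refine f.isClosedMap _ ?_
  rw [← isOpen_compl_iff]
  refine isOpen_iff_forall_mem_open.2 fun x hx => ?_
  obtain ⟨U, hxU, hU⟩ := not_not.1 hx
  exact ⟨U, fun y hy => not_not.2 ⟨U, hy, hU⟩, U.2, hxU⟩

end Groth.Agent.FibreLocus
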