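import Groth.Agent.Lib.FibreLocus.Fibre
import Groth.Agent.Lib.FlatH4.FibreCritScheme
import Groth.Prelude.Def_ega3

/-!
# Smoothness, étaleness and unramifiedness at a point of a morphism over a base
-/

universe u

set_option linter.style.haveILetI false

open CategoryTheory CategoryTheory.Limits AlgebraicGeometry Topology

namespace Groth.Agent.FibreLocus

/-- Membership in `fibSet` can be read off the map of fibres. -/
theorem fiberMapOver_iff {Q : ∀ {X Y : Scheme.{u}}, (X ⟶ Y) → X → Prop} (hQ : IsPtLocal Q)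
    {X Y S : Scheme.{u}} (f : X ⟶ Y) (g : Y ⟶ S) (s : S) (x' : ↥((f ≫ g).fiber s)) :
    Q (CohIII.fiberMapOver f (f ≫ g) g rfl s) x' ↔ (f ≫ g).fiberι s x' ∈ fibSet Q f g := by
  have h : IsPullback ((f ≫ g).fiberι s) (CohIII.fiberMapOver f (f ≫ g) g rfl s) f (g.fiberι s) :=
    IsPullback.of_bot
      (show IsPullback ((f ≫ g).fiberι s) (CohIII.fiberMapOver f (f ≫ g) g rfl s ≫ g.fiberToSpecResidueField s)
          (f ≫ g) (S.fromSpecResidueField s) by
        rw [show CohIII.fiberMapOver f (f ≫ g) g rfl s ≫ g.fiberToSpecResidueField s =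
          (f ≫ g).fiberToSpecResidueField s from (pullback.lift_snd _ _ _).trans (Category.comp_id _)]
        exact IsPullback.of_hasPullback _ _)
      (pullback.lift_fst _ _ _).symm (IsPullback.of_hasPullback g (S.fromSpecResidueField s))
  let e := h.isoPullback
  rw [mem_fibSet_iff f g (e.hom x') (by rw [← Scheme.Hom.comp_apply, h.isoPullback_hom_fst]),
    ← hQ.open_source e.hom _ inferInstance x', h.isoPullback_hom_snd]

/-- Smoothness at a point from flatness and smoothness in the fibre over any base. -/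
theorem smoothPt_of_flatPt_of_mem_fibSet {X Y S : Scheme.{u}} (f : X ⟶ Y) (g : Y ⟶ S)
    [LocallyOfFinitePresentation f] (x : X) (hflat : FlatPt f x) (h : x ∈ fibSet SmoothPt f g) :
    SmoothPt f x := by
  replace h := mem_fibSet_id isPtLocal_smoothPt f g x h
  obtain ⟨W, hW, hxW, -⟩ := exists_isAffineOpen_mem_and_subset (X := Y) (x := f x) (U := ⊤) trivial
  obtain ⟨V, hV, hxV, hVW⟩ :=
    exists_isAffineOpen_mem_and_subset (X := X) (x := x) (U := f ⁻¹ᵁ W) hxW
  have hfp := f.finitePresentation_appLE hW hV hVW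
  algebraize [(f.appLE W V hVW).hom]
  let c := specT Γ(Y, W) Γ(X, V)
  haveI : LocallyOfFinitePresentation c := (LocallyOfFinitePresentation.SpecMap_iff _).2 hfp
  have hc : c ≫ hW.fromSpec = hV.fromSpec ≫ f := IsAffineOpen.SpecMap_appLE_fromSpec f hW hV hVW
  obtain ⟨q, rfl⟩ : x ∈ Set.range hV.fromSpec := by rw [hV.range_fromSpec]; exact hxV
  have h1 : q ∈ fibSet SmoothPt (hV.fromSpec ≫ f) (𝟙 Y) := by
    rw [fibSet_comp_openImmersion f (𝟙 Y) isPtLocal_smoothPt hV.fromSpec]; exact h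
  rw [← hc, ← fibSet_of_openImmersion_middle (𝟙 Y) isPtLocal_smoothPt hW.fromSpec c] at h1
  have hflat' : FlatPt (hV.fromSpec ≫ f) q := (isPtLocal_flatPt.open_source _ f inferInstance q).2 hflat
  rw [← hc] at hflat'
  obtain ⟨U, hqU, hU⟩ := smoothPt_of_flatPt_of_fibre q
    ((FlatH4.flat_stalkMap_comp_right_iff c hW.fromSpec q).1 hflat')
    (mem_fibSet_id isPtLocal_smoothPt c _ q h1)
  refine (isPtLocal_smoothPt.open_source hV.fromSpec f inferInstance q).1 ⟨U, hqU, ?_⟩
  haveI := hU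
  rw [← hc, ← Category.assoc]
  infer_instance

/-- Flatness at a point from flatness in the fibre and flatness over the base. -/
theorem flatPt_of_mem_fibSet_scheme {X Y S : Scheme.{u}} (f : X ⟶ Y) (g : Y ⟶ S)
    [LocallyOfFinitePresentation (f ≫ g)] [LocallyOfFiniteType g] (x : X)
    (hflat : FlatPt (f ≫ g) x) (h : x ∈ fibSet FlatPt f g) : FlatPt f x := by
  obtain ⟨s, x', rfl⟩ : ∃ s x', (f ≫ g).fiberι s x' = x := by
    have : x ∈ Set.range ((f ≫ g).fiberι ((f ≫ g) x)) := by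
      rw [Scheme.Hom.range_fiberι]; exact rfl
    exact ⟨_, this⟩
  exact FlatH4.flat_of_flat_fibreMapAt' f g (S.fromSpecResidueField _) x' hflat
    ((fiberMapOver_iff isPtLocal_flatPt f g _ x').2 h)

theorem smoothPt_iff_fiberMapOver {X Y S : Scheme.{u}} (f : X ⟶ Y) (g : Y ⟶ S)
    [LocallyOfFinitePresentation g] [LocallyOfFinitePresentation (f ≫ g)] {s : S}
    (x' : ↥((f ≫ g).fiber s)) (hflat : FlatPt (f ≫ g) ((f ≫ g).fiberι s x')) :
    SmoothPt f ((f ≫ g).fiberι s x') ↔ SmoothPt (CohIII.fiberMapOver f (f ≫ g) g rfl s) x' := by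
  haveI := SchBasic.locallyOfFinitePresentation_of_comp f g
  rw [fiberMapOver_iff isPtLocal_smoothPt f g s x']
  refine ⟨mem_fibSet_of_pt isPtLocal_smoothPt f g _, fun h => ?_⟩
  exact smoothPt_of_flatPt_of_mem_fibSet f g _
    (flatPt_of_mem_fibSet_scheme f g _ hflat fun z hz => smoothPt_flatPt (h z hz)) h

theorem unrPt_iff_fiberMapOver {X Y S : Scheme.{u}} (f : X ⟶ Y) (g : Y ⟶ S)
    [LocallyOfFinitePresentation g] [LocallyOfFinitePresentation (f ≫ g)] {s : S}
    (x' : ↥((f ≫ g).fiber s)) :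
    UnrPt f ((f ≫ g).fiberι s x') ↔ UnrPt (CohIII.fiberMapOver f (f ≫ g) g rfl s) x' := by
  haveI := SchBasic.locallyOfFinitePresentation_of_comp f g
  rw [fiberMapOver_iff isPtLocal_unrPt f g s x', fibSet_unrPt_eq]
  rfl

theorem exists_etale_nhd_iff {X Y : Scheme.{u}} (φ : X ⟶ Y) (x : X) :
    (∃ U : X.Opens, x ∈ U ∧ Etale (U.ι ≫ φ)) ↔ SmoothPt φ x ∧ UnrPt φ x := by
  constructor
  · rintro ⟨U, hx, hU⟩
    exact ⟨⟨U, hx, inferInstance⟩, ⟨U, hx, inferInstance⟩⟩
  · rintro ⟨⟨U, hxU, hU⟩, ⟨V, hxV, hV⟩⟩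
    refine ⟨U ⊓ V, ⟨hxU, hxV⟩, ?_⟩
    rw [etale_iff_smooth_and_formallyUnramified]
    constructor
    · rw [← X.homOfLE_ι (inf_le_left : U ⊓ V ≤ U), Category.assoc]
      haveI := hU
      infer_instance
    · rw [← X.homOfLE_ι (inf_le_right : U ⊓ V ≤ V), Category.assoc]
      exact MorphismProperty.comp_mem @FormallyUnramified _ _ inferInstance hV

end Groth.Agent.FibreLocus
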