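import Groth.Agent.Lib.FibreLocus.Pointwise
import Mathlib.AlgebraicGeometry.Fiber

/-!
# The points where a morphism over a base has a property in its fibre
-/

universe u

set_option linter.style.haveILetI false

open CategoryTheory CategoryTheory.Limits AlgebraicGeometry

namespace Groth.Agent.FibreLocus

variable (Q : ∀ {X Y : Scheme.{u}}, (X ⟶ Y) → X → Prop)

/-- The points `x` of `X` where the fibre of `f : X ⟶ Y` over the image of `x` in `S` has `Q`. -/
def fibSet {X Y S : Scheme.{u}} (f : X ⟶ Y) (g : Y ⟶ S) : Set X :=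
  {x | ∀ z : ↥(pullback f (g.fiberι (g (f x)))), pullback.fst f _ z = x → Q (pullback.snd f _) z}

variable {Q} {X Y S : Scheme.{u}} (f : X ⟶ Y) (g : Y ⟶ S)

theorem exists_fibre_point (x : X) (s : S) (hs : g (f x) = s) :
    ∃ z : ↥(pullback f (g.fiberι s)), pullback.fst f _ z = x := by
  obtain ⟨y, hy⟩ : f x ∈ Set.range (g.fiberι s) := by
    rw [Scheme.Hom.range_fiberι]; exact hs
  obtain ⟨z, hz, -⟩ := Scheme.Pullback.exists_preimage_pullback (f := f) (g := g.fiberι s) x y hy.symm
  exact ⟨z, hz⟩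

theorem mem_fibSet_iff {x : X} {s : S} (z : ↥(pullback f (g.fiberι s)))
    (hz : pullback.fst f _ z = x) :
    x ∈ fibSet Q f g ↔ Q (pullback.snd f (g.fiberι s)) z := by
  obtain rfl : g (f x) = s := by
    obtain ⟨y, hy⟩ : ∃ y, g.fiberι s y = f x := ⟨pullback.snd f (g.fiberι s) z, by
      rw [← hz, ← Scheme.Hom.comp_apply, ← Scheme.Hom.comp_apply, pullback.condition]⟩
    rw [← hy]
    exact (Scheme.Hom.range_fiberι g s).le ⟨y, rfl⟩
  refine ⟨fun h => h z hz, fun h z' hz' => ?_⟩
  rwa [(pullback.fst f (g.fiberι _)).isEmbedding.injective (hz'.trans hz.symm)]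

/-- Over every point of the base. -/
theorem forall_fibre_iff (s : S) :
    (∀ z, Q (pullback.snd f (g.fiberι s)) z) ↔ ∀ x, g (f x) = s → x ∈ fibSet Q f g := by
  refine ⟨fun h x hx => ?_, fun h z => ?_⟩
  · obtain ⟨z, hz⟩ := exists_fibre_point f g x s hx
    exact (mem_fibSet_iff f g z hz).2 (h z)
  · refine (mem_fibSet_iff f g z rfl).1 (h _ ?_)
    rw [← Scheme.Hom.comp_apply, ← Scheme.Hom.comp_apply, pullback.condition_assoc]
    exact (Scheme.Hom.range_fiberι g s).le ⟨_, rfl⟩

/-- `fibSet` can be computed with any field valued point of the base. -/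
theorem mem_fibSet_iff_of_field (hQ : IsPtLocal Q) [LocallyOfFinitePresentation f] (K : Type u)
    [Field K] (τ : Spec (.of K) ⟶ S) {YK XK : Scheme.{u}} {qY : YK ⟶ Y} {gK : YK ⟶ Spec (.of K)}
    (hY : IsPullback qY gK g τ) {qX : XK ⟶ X} {fK : XK ⟶ YK} (hX : IsPullback qX fK f qY)
    (z : XK) : qX z ∈ fibSet Q f g ↔ Q fK z := by
  let s := τ (IsLocalRing.closedPoint K)
  let φ := Scheme.descResidueField (Scheme.stalkClosedPointTo τ)
  have hτ : Spec.map φ ≫ S.fromSpecResidueField s = τ :=
    Scheme.descResidueField_stalkClosedPointTo_fromSpecResidueField K S τ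
  let ρ : YK ⟶ g.fiber s := pullback.lift qY (gK ≫ Spec.map φ) (by
    rw [Category.assoc, hτ]; exact hY.w)
  have h1 : IsPullback ρ gK (g.fiberToSpecResidueField s) (Spec.map φ) :=
    IsPullback.of_right
      (show IsPullback (ρ ≫ g.fiberι s) gK g (Spec.map φ ≫ S.fromSpecResidueField s) by
        rw [hτ, show ρ ≫ g.fiberι s = qY from pullback.lift_fst _ _ _]; exact hY)
      (pullback.lift_snd _ _ _) (IsPullback.of_hasPullback g (S.fromSpecResidueField s))
  haveI : Flat (Spec.map φ) := by
    letI := φ.hom.toAlgebra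
    rw [HasRingHomProperty.Spec_iff (P := @Flat)]
    exact RingHom.flat_algebraMap_iff.2 inferInstance
  haveI : Flat ρ := MorphismProperty.of_isPullback h1.flip ‹_›
  have hρ : ρ ≫ g.fiberι s = qY := pullback.lift_fst _ _ _
  let σ : XK ⟶ pullback f (g.fiberι s) := pullback.lift qX (fK ≫ ρ) (by
    rw [Category.assoc, hρ]; exact hX.w)
  have h2 : IsPullback σ fK (pullback.snd f (g.fiberι s)) ρ :=
    IsPullback.of_right
      (show IsPullback (σ ≫ pullback.fst f _) fK f (ρ ≫ g.fiberι s) by
        rw [hρ, pullback.lift_fst]; exact hX)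
      (pullback.lift_snd _ _ _) (IsPullback.of_hasPullback f (g.fiberι s))
  have hz : pullback.fst f (g.fiberι s) (σ z) = qX z := by
    rw [← Scheme.Hom.comp_apply, pullback.lift_fst]
  haveI : LocallyOfFinitePresentation (pullback.snd f (g.fiberι s)) :=
    inferInstance
  rw [mem_fibSet_iff f g _ hz]
  exact ⟨hQ.bc h2 z, hQ.desc h2 inferInstance inferInstance z⟩

/-- `fibSet` commutes with base change. -/
theorem fibSet_baseChange (hQ : IsPtLocal Q) [LocallyOfFinitePresentation f] {T YT XT : Scheme.{u}}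
    {σ : T ⟶ S} {qY : YT ⟶ Y} {gT : YT ⟶ T} (hY : IsPullback qY gT g σ) {qX : XT ⟶ X}
    {fT : XT ⟶ YT} (hX : IsPullback qX fT f qY) :
    fibSet Q fT gT = qX ⁻¹' fibSet Q f g := by
  ext x
  obtain ⟨z, hz⟩ := exists_fibre_point fT gT x _ rfl
  rw [mem_fibSet_iff fT gT z hz, Set.mem_preimage]
  have h0 := mem_fibSet_iff_of_field f g hQ _ (T.fromSpecResidueField (gT (fT x)) ≫ σ)
    ((IsPullback.of_hasPullback gT (T.fromSpecResidueField (gT (fT x)))).paste_horiz hY)
    ((IsPullback.of_hasPullback fT (gT.fiberι (gT (fT x)))).paste_horiz hX) z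
  rw [Scheme.Hom.comp_apply, hz] at h0
  exact h0.symm

/-- `fibSet` commutes with open immersions into the source. -/
theorem fibSet_comp_openImmersion (hQ : IsPtLocal Q) {U : Scheme.{u}} (i : U ⟶ X) [IsOpenImmersion i] :
    fibSet Q (i ≫ f) g = i ⁻¹' fibSet Q f g := by
  ext x
  obtain ⟨z, hz⟩ := exists_fibre_point (i ≫ f) g x _ rfl
  let j : pullback (i ≫ f) (g.fiberι (g ((i ≫ f) x))) ⟶ pullback f (g.fiberι (g ((i ≫ f) x))) :=
    pullback.lift (pullback.fst _ _ ≫ i) (pullback.snd _ _)
      (by rw [Category.assoc]; exact pullback.condition)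
  have h : IsPullback (pullback.fst (i ≫ f) (g.fiberι _)) j i (pullback.fst f _) :=
    IsPullback.of_bot
      (show IsPullback (pullback.fst (i ≫ f) (g.fiberι _)) (j ≫ pullback.snd f _) (i ≫ f) (g.fiberι _) by
        rw [pullback.lift_snd]; exact IsPullback.of_hasPullback _ _)
      (pullback.lift_fst _ _ _).symm (IsPullback.of_hasPullback f _).flip.flip
  haveI : IsOpenImmersion j := MorphismProperty.of_isPullback h ‹_›
  rw [mem_fibSet_iff (i ≫ f) g z hz, Set.mem_preimage,
    mem_fibSet_iff f g (j z) (by rw [← Scheme.Hom.comp_apply, pullback.lift_fst,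
      Scheme.Hom.comp_apply, hz]), ← hQ.open_source j _ inferInstance z, pullback.lift_snd]

/-- `fibSet` does not change when the middle scheme is replaced by an open containing the image. -/
theorem fibSet_of_openImmersion_middle (hQ : IsPtLocal Q) {W : Scheme.{u}} (j : W ⟶ Y)
    [IsOpenImmersion j] (f' : X ⟶ W) [LocallyOfFinitePresentation f'] :
    fibSet Q f' (j ≫ g) = fibSet Q (f' ≫ j) g := by
  ext x
  obtain ⟨z, hz⟩ := exists_fibre_point f' (j ≫ g) x _ rfl
  let s := (j ≫ g) (f' x)
  let k : (j ≫ g).fiber s ⟶ g.fiber s :=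
    pullback.lift ((j ≫ g).fiberι s ≫ j) ((j ≫ g).fiberToSpecResidueField s)
      (by rw [Category.assoc]; exact pullback.condition)
  have h : IsPullback ((j ≫ g).fiberι s) k j (g.fiberι s) :=
    IsPullback.of_bot
      (show IsPullback ((j ≫ g).fiberι s) (k ≫ g.fiberToSpecResidueField s) (j ≫ g)
          (S.fromSpecResidueField s) by
        rw [show k ≫ g.fiberToSpecResidueField s = (j ≫ g).fiberToSpecResidueField s from
          pullback.lift_snd _ _ _]
        exact IsPullback.of_hasPullback _ _)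
      (pullback.lift_fst _ _ _).symm (IsPullback.of_hasPullback g _)
  haveI : IsOpenImmersion k := MorphismProperty.of_isPullback h ‹_›
  have h' : IsPullback (pullback.fst f' ((j ≫ g).fiberι s)) (pullback.snd f' _ ≫ k) (f' ≫ j) (g.fiberι s) :=
    (IsPullback.of_hasPullback f' _).paste_vert h
  let e := h'.isoPullback
  have hez : pullback.fst (f' ≫ j) (g.fiberι s) (e.hom z) = x := by
    rw [← Scheme.Hom.comp_apply, h'.isoPullback_hom_fst]; exact hz
  rw [mem_fibSet_iff f' (j ≫ g) z hz, mem_fibSet_iff (f' ≫ j) g _ hez,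
    ← hQ.open_source e.hom _ inferInstance z, h'.isoPullback_hom_snd]
  have hk : IsPullback (𝟙 _) (pullback.snd f' ((j ≫ g).fiberι s)) (pullback.snd f' _ ≫ k) k :=
    IsPullback.of_horiz_isIso_mono ⟨by simp⟩
  constructor
  · exact fun hq => hQ.desc hk inferInstance inferInstance z hq
  · exact fun hq => hQ.bc hk z hq

end Groth.Agent.FibreLocus
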