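import Groth.Agent.Lib.FibreLocus.Fibre
import Groth.Agent.Lib.Descend.QuasiFinite

/-!
# Quasi-finiteness at a point is a property of the fibre
-/

universe u

set_option linter.style.haveILetI false

open CategoryTheory CategoryTheory.Limits AlgebraicGeometry Topology

namespace Groth.Agent.FibreLocus

/-- Quasi-finiteness near a point. -/
def QFPt {X Y : Scheme.{u}} (φ : X ⟶ Y) (x : X) : Prop :=
  ∃ U : X.Opens, x ∈ U ∧ LocallyQuasiFinite (U.ι ≫ φ)

theorem qfPt_of_openImmersion {W X Y : Scheme.{u}} (j : W ⟶ X) [IsOpenImmersion j]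
    (φ : X ⟶ Y) [LocallyQuasiFinite (j ≫ φ)] (w : W) : QFPt φ (j w) := by
  refine ⟨j.opensRange, ⟨w, rfl⟩, ?_⟩
  rw [← Scheme.Hom.isoOpensRange_inv_comp j, Category.assoc]
  infer_instance

theorem qfPt_iff {X Y : Scheme.{u}} (φ : X ⟶ Y) [LocallyOfFiniteType φ] (x : X) :
    QFPt φ x ↔ φ.QuasiFiniteAt x := by
  constructor
  · rintro ⟨U, hxU, hU⟩
    exact Scheme.Hom.quasiFiniteAt_comp_iff_of_isOpenImmersion.1
      ((U.ι ≫ φ).quasiFiniteAt ⟨x, hxU⟩)
  · intro h
    refine ⟨φ.quasiFiniteLocus, h, ?_⟩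
    rw [← Scheme.Hom.quasiFiniteLocus_eq_top_iff, Scheme.Hom.quasiFiniteLocus_comp,
      Scheme.Opens.ι_preimage_self]

theorem isPtLocal_qfPt : IsPtLocal @QFPt.{u} where
  bc {P X Y Y' a b f g} hP z h := by
    obtain ⟨U, hzU, hU⟩ := h
    exact ⟨a ⁻¹ᵁ U, hzU, MorphismProperty.of_isPullback
      ((isPullback_morphismRestrict a U).paste_vert hP) hU⟩
  desc {P X Y Y' a b f g} hP _ _ z h := by
    haveI : LocallyOfFiniteType b := MorphismProperty.of_isPullback hP inferInstance
    exact (qfPt_iff f _).2 (Descend.quasiFiniteAt_of_isPullback hP ((qfPt_iff b z).1 h))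
  open_source {U X Y} i φ _ z := by
    constructor
    · rintro ⟨V, hzV, hV⟩
      haveI : LocallyQuasiFinite ((V.ι ≫ i) ≫ φ) := by rw [Category.assoc]; exact hV
      exact qfPt_of_openImmersion (V.ι ≫ i) φ ⟨z, hzV⟩
    · rintro ⟨V, hzV, hV⟩
      refine ⟨i ⁻¹ᵁ V, hzV, ?_⟩
      haveI := hV
      rw [← Category.assoc, ← morphismRestrict_ι, Category.assoc]
      infer_instance

theorem forall_qfPt_iff {X Y : Scheme.{u}} (φ : X ⟶ Y) :
    (∀ x, QFPt φ x) ↔ LocallyQuasiFinite φ := by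
  refine ⟨fun h => ?_, fun _ x => ⟨⊤, trivial, inferInstance⟩⟩
  choose V hxV hV using h
  exact (IsZariskiLocalAtSource.iff_of_openCover (P := @LocallyQuasiFinite)
    (X.openCoverOfIsOpenCover V (TopologicalSpace.IsOpenCover.mk (top_le_iff.1 fun x _ =>
      TopologicalSpace.Opens.mem_iSup.2 ⟨x, hxV x⟩)))).2 hV

/-- Quasi-finiteness at a point can be tested in the fibre over any base. -/
theorem fibSet_qfPt_eq {X Y S : Scheme.{u}} (f : X ⟶ Y) (g : Y ⟶ S)
    [LocallyOfFinitePresentation f] : fibSet QFPt f g = {x | QFPt f x} := by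
  ext x
  refine ⟨fun h => ?_, mem_fibSet_of_pt isPtLocal_qfPt f g x⟩
  obtain ⟨z, hz⟩ := exists_fibre_point f g x _ rfl
  rw [mem_fibSet_iff f g z hz, qfPt_iff] at h
  rw [Set.mem_setOf_eq, qfPt_iff, ← hz]
  exact Descend.quasiFiniteAt_of_isPullback (IsPullback.of_hasPullback f _) h

theorem genConstr_qfPt : GenConstr @QFPt.{u} := by
  intro R B C _ _ _ _ _ _ _ _ _ _ _
  haveI : IsNoetherianRing C := Algebra.FiniteType.isNoetherianRing R C
  haveI : IsNoetherianRing B := Algebra.FiniteType.isNoetherianRing R B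
  haveI : Algebra.FiniteType B C := Algebra.FiniteType.of_restrictScalars_finiteType R B C
  haveI : Algebra.FinitePresentation B C := Algebra.FinitePresentation.of_finiteType.1 inferInstance
  haveI : LocallyOfFinitePresentation (specT B C) :=
    (LocallyOfFinitePresentation.SpecMap_iff _).2 (RingHom.finitePresentation_algebraMap.2 inferInstance)
  refine ⟨1, one_ne_zero, ?_⟩
  rw [fibSet_qfPt_eq]
  refine (TopologicalSpace.NoetherianSpace.isCompact _).isConstructible
    (IsOpen.inter (X := PrimeSpectrum C) ?_ (PrimeSpectrum.basicOpen (algebraMap R C 1)).2)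
  exact isOpen_iff_forall_mem_open.2 fun x ⟨U, hxU, hU⟩ => ⟨(U : Set ↥(Spec (CommRingCat.of C))), fun y hy => ⟨U, hy, hU⟩, U.2, hxU⟩

theorem isLocallyConstructible_setOf_fibre_qf {X Y S : Scheme.{u}} (f : X ⟶ Y) (g : Y ⟶ S)
    [LocallyOfFinitePresentation g] [LocallyOfFinitePresentation (f ≫ g)] [QuasiCompact (f ≫ g)] :
    IsLocallyConstructible {s : S | LocallyQuasiFinite (pullback.snd f (g.fiberι s))} := by
  haveI := SchBasic.locallyOfFinitePresentation_of_comp f g
  simp only [← forall_qfPt_iff]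
  exact isLocallyConstructible_setOf_fibre f g
    (isLocallyConstructible_fibSet isPtLocal_qfPt genConstr_qfPt f g)

end Groth.Agent.FibreLocus
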