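import Groth.Agent.Lib.FibreLocus.Flat
import Mathlib.RingTheory.Smooth.Fiber

/-!
# Fibrewise smoothness is constructible
-/

universe u

set_option linter.style.haveILetI false

open CategoryTheory CategoryTheory.Limits AlgebraicGeometry Topology TensorProduct

namespace Groth.Agent.FibreLocus

/-- A property in the fibre over the base holds in the fibre over the point itself. -/
theorem mem_fibSet_id {Q : ∀ {X Y : Scheme.{u}}, (X ⟶ Y) → X → Prop} (hQ : IsPtLocal Q)
    {X Y S : Scheme.{u}} (f : X ⟶ Y) [LocallyOfFinitePresentation f] (g : Y ⟶ S) (x : X)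
    (h : x ∈ fibSet Q f g) : x ∈ fibSet Q f (𝟙 Y) := by
  obtain ⟨z, hz⟩ := exists_fibre_point f g x _ rfl
  rw [mem_fibSet_iff f g z hz] at h
  let w := pullback.snd f (g.fiberι _) z
  let ι' := (g.fiber (g (f x))).fromSpecResidueField w
  obtain ⟨z', hz', -⟩ := Scheme.Pullback.exists_preimage_pullback
    (f := pullback.snd f (g.fiberι _)) (g := ι') z (IsLocalRing.closedPoint _)
    (Scheme.fromSpecResidueField_apply _ _).symm
  have hX : IsPullback (pullback.fst (pullback.snd f (g.fiberι (g (f x)))) ι' ≫ pullback.fst f _)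
      (pullback.snd (pullback.snd f (g.fiberι (g (f x)))) ι') f (ι' ≫ g.fiberι _) :=
    ((IsPullback.of_hasPullback _ ι').flip.paste_vert (IsPullback.of_hasPullback f _).flip).flip
  have h0 := mem_fibSet_iff_of_field f (𝟙 Y) hQ _ (ι' ≫ g.fiberι _)
    (qY := ι' ≫ g.fiberι _) (gK := 𝟙 _) IsPullback.of_id_fst.flip hX z'
  rw [Scheme.Hom.comp_apply, hz', hz] at h0
  exact h0.2 (hQ.bc (IsPullback.of_hasPullback _ ι') z' (hz'.symm ▸ h))

theorem exists_smul_tensor_residue {B C : Type u} [CommRing B] [CommRing C] [Algebra B C]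
    (p : Ideal B) [p.IsPrime] (e : p.ResidueField ⊗[B] C) :
    ∃ r ∉ p, ∃ c : C, (1 : p.ResidueField) ⊗ₜ[B] algebraMap B C r * e = 1 ⊗ₜ[B] c := by
  induction e using TensorProduct.induction_on with
  | zero => exact ⟨1, fun h => Ideal.IsPrime.ne_top' ((Ideal.eq_top_iff_one p).2 h), 0, by simp⟩
  | add e₁ e₂ h₁ h₂ =>
    obtain ⟨r₁, hr₁, c₁, h₁⟩ := h₁
    obtain ⟨r₂, hr₂, c₂, h₂⟩ := h₂
    refine ⟨r₁ * r₂, fun h => (Ideal.IsPrime.mem_or_mem ‹p.IsPrime› h).elim hr₁ hr₂,
      algebraMap B C r₂ * c₁ + algebraMap B C r₁ * c₂, ?_⟩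
    have key : ∀ x y : C, (1 : p.ResidueField) ⊗ₜ[B] (x * y) =
        ((1 : p.ResidueField) ⊗ₜ[B] x) * ((1 : p.ResidueField) ⊗ₜ[B] y) := fun x y => by
      rw [Algebra.TensorProduct.tmul_mul_tmul, one_mul]
    rw [TensorProduct.tmul_add, map_mul, key, key, key, ← h₁, ← h₂]
    ring
  | tmul k c =>
    obtain ⟨r, hr, a, ha⟩ := exists_smul_residueField p k
    refine ⟨r, hr, algebraMap B C a * c, ?_⟩
    rw [Algebra.TensorProduct.tmul_mul_tmul, one_mul, ← Algebra.smul_def, ← Algebra.smul_def,
      ← TensorProduct.smul_tmul, ← TensorProduct.smul_tmul, Algebra.smul_def, Algebra.smul_def,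
      ha, mul_one]

/-- Smoothness at a point from flatness at the point and smoothness of the fibre at the point. -/
theorem smoothPt_of_flatPt_of_fibre {B C : Type u} [CommRing B] [CommRing C] [Algebra B C]
    [Algebra.FinitePresentation B C] (q : ↥(Spec (CommRingCat.of C)))
    (hflat : FlatPt (specT B C) q) (h : q ∈ fibSet SmoothPt (specT B C) (𝟙 _)) :
    SmoothPt (specT B C) q := by
  haveI : LocallyOfFinitePresentation (specT B C) :=
    (LocallyOfFinitePresentation.SpecMap_iff _).2 (RingHom.finitePresentation_algebraMap.2 inferInstance)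
  let qq : PrimeSpectrum C := q
  let p := qq.asIdeal.comap (algebraMap B C)
  let K := p.ResidueField
  let C' := K ⊗[B] C
  letI : Algebra C C' := Algebra.TensorProduct.rightAlgebra
  have hX := isPullback_specT_tensor B K C
  obtain ⟨z, hz⟩ : q ∈ Set.range (Spec.map (CommRingCat.ofHom
      (Algebra.TensorProduct.includeRight (R := B) (A := K) (B := C)).toRingHom)) := by
    rw [range_eq_preimage_of_isPullback hX]
    refine ⟨(⊥ : PrimeSpectrum K), ?_⟩
    apply PrimeSpectrum.ext
    show (⊥ : Ideal K).comap (algebraMap B K) = p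
    exact Ideal.ker_algebraMap_residueField p
  rw [← hz, mem_fibSet_iff_of_field (specT B C) (𝟙 _) isPtLocal_smoothPt K (specT B K)
    (qY := specT B K) (gK := 𝟙 _) IsPullback.of_id_fst.flip hX z] at h
  haveI : Algebra.FinitePresentation K C' := inferInstance
  haveI : LocallyOfFinitePresentation (specT K C') :=
    (LocallyOfFinitePresentation.SpecMap_iff _).2 (RingHom.finitePresentation_algebraMap.2 inferInstance)
  replace h : (show PrimeSpectrum C' from z) ∈ Algebra.smoothLocus K C' :=
    (Descend.mem_smoothLocus_SpecMap_iff z).1 ((Descend.smooth_nhd_iff_mem_smoothLocus _ z).1 h)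
  let zz : PrimeSpectrum C' := z
  have hzq : zz.asIdeal.comap (algebraMap C C') = qq.asIdeal := congrArg PrimeSpectrum.asIdeal hz
  obtain ⟨_, ⟨_, ⟨e, rfl⟩, rfl⟩, hze, he⟩ := PrimeSpectrum.isBasis_basic_opens.exists_subset_of_mem_open
    h Algebra.isOpen_smoothLocus
  obtain ⟨r, hr, c₁, hc₁⟩ := exists_smul_tensor_residue p e
  have hc₁q : c₁ ∉ qq.asIdeal := by
    rw [← hzq, Ideal.mem_comap]
    show (1 : K) ⊗ₜ[B] c₁ ∉ zz.asIdeal
    rw [← hc₁]
    exact fun h' => ((inferInstance : zz.asIdeal.IsPrime).mem_or_mem h').elim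
      (fun h'' => hr (show algebraMap B C r ∈ qq.asIdeal from hzq.le h'')) hze
  obtain ⟨_, ⟨_, ⟨c₂, rfl⟩, rfl⟩, hc₂q, hc₂⟩ :=
    PrimeSpectrum.isBasis_basic_opens.exists_subset_of_mem_open
      (show qq ∈ {x : PrimeSpectrum C | FlatPt (specT B C) x} from hflat)
      (FlatH4.isOpen_flatLocus (specT B C))
  let c := c₁ * c₂
  have hcq : c ∉ qq.asIdeal := fun h' =>
    ((inferInstance : qq.asIdeal.IsPrime).mem_or_mem h').elim hc₁q hc₂q
  let Cc := Localization.Away c
  haveI : Algebra.FinitePresentation C Cc := IsLocalization.Away.finitePresentation c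
  haveI : Algebra.FinitePresentation B Cc := Algebra.FinitePresentation.trans B C Cc
  haveI : Module.Flat B Cc := by
    refine Module.flat_of_isLocalized_maximal (R := B) Cc Cc (fun P _ => Localization.AtPrime P)
      (fun P _ => Algebra.linearMap Cc (Localization.AtPrime P)) fun P _ => ?_
    let P' := P.comap (algebraMap C Cc)
    haveI : IsLocalization.AtPrime (Localization.AtPrime P) P' :=
      IsLocalization.isLocalization_isLocalization_atPrime_isLocalization (.powers c) _ P
    have hP' : c₂ ∉ P' := fun h' => (inferInstance : P.IsPrime).ne_top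
      (Ideal.eq_top_of_isUnit_mem _ (show algebraMap C Cc c ∈ P from P'.mul_mem_left c₁ h')
        (IsLocalization.Away.algebraMap_isUnit c))
    haveI : Module.Flat B (Localization.AtPrime P') := (flatPt_specT_iff _).1 (hc₂
      (show (⟨P', inferInstance⟩ : PrimeSpectrum C) ∈ PrimeSpectrum.basicOpen c₂ from hP'))
    exact Module.Flat.of_linearEquiv (((IsLocalization.algEquiv P'.primeCompl (Localization.AtPrime P')
      (Localization.AtPrime P)).restrictScalars B).toLinearEquiv.symm)
  let T := p.Fiber Cc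
  letI : Algebra C' T :=
    (Algebra.TensorProduct.map (AlgHom.id K K) (IsScalarTower.toAlgHom B C Cc)).toRingHom.toAlgebra
  haveI : IsScalarTower K C' T := IsScalarTower.of_algebraMap_eq (R := K) (S := C') (A := T) fun w => by
    show w ⊗ₜ[B] (1 : Cc) = Algebra.TensorProduct.map (AlgHom.id K K) (IsScalarTower.toAlgHom B C Cc) (w ⊗ₜ[B] (1 : C))
    simp
  haveI hloc : IsLocalization (Algebra.algebraMapSubmonoid C' (Submonoid.powers c)) T :=
    IsLocalization.tensorProduct_tensorProduct_right B K (Submonoid.powers c) Cc (by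
      ext x
      show Algebra.TensorProduct.map (AlgHom.id K K) (IsScalarTower.toAlgHom B C Cc) ((1 : K) ⊗ₜ[B] x) = _
      simp)
  haveI : IsLocalization.Away (algebraMap C C' c) T := by
    rw [Algebra.algebraMapSubmonoid, Submonoid.map_powers] at hloc
    exact hloc
  haveI : Algebra.FormallySmooth K (Localization.Away (algebraMap C C' c)) := by
    refine Algebra.basicOpen_subset_smoothLocus_iff.1 ((Set.Subset.trans ?_ he))
    intro x hx
    have hx' : ((1 : K) ⊗ₜ[B] c₁) * ((1 : K) ⊗ₜ[B] c₂) ∉ x.asIdeal := by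
      rw [Algebra.TensorProduct.tmul_mul_tmul, one_mul]; exact hx
    rw [← hc₁] at hx'
    exact fun he' => hx' (Ideal.mul_mem_right _ _ (Ideal.mul_mem_left _ _ he'))
  haveI : Algebra.FormallySmooth K T :=
    .of_equiv ((IsLocalization.algEquiv (Submonoid.powers (algebraMap C C' c))
      (Localization.Away (algebraMap C C' c)) T).restrictScalars K)
  obtain ⟨qc, hqc⟩ : qq ∈ Set.range (PrimeSpectrum.comap (algebraMap C Cc)) := by
    rw [PrimeSpectrum.localization_away_comap_range Cc c]
    exact hcq
  haveI : qc.asIdeal.LiesOver p := ⟨by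
    show p = qc.asIdeal.comap (algebraMap B Cc)
    rw [IsScalarTower.algebraMap_eq B C Cc, ← Ideal.comap_comap]
    exact (congrArg (fun x : PrimeSpectrum C => x.asIdeal.comap (algebraMap B C)) hqc).symm⟩
  have hsm : qc ∈ Algebra.smoothLocus B Cc := Algebra.IsSmoothAt.of_formallySmooth_fiber p qc.asIdeal
  rw [← Algebra.smoothLocus_comap_of_isLocalization c (Af := Cc), Set.mem_preimage, hqc] at hsm
  exact (Descend.smooth_nhd_iff_mem_smoothLocus _ _).2 ((Descend.mem_smoothLocus_SpecMap_iff _).2 hsm)

theorem genConstr_smoothPt : GenConstr @SmoothPt.{u} := by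
  intro R B C _ _ _ _ _ _ _ _ _ _ _
  haveI : IsNoetherianRing C := Algebra.FiniteType.isNoetherianRing R C
  haveI : IsNoetherianRing B := Algebra.FiniteType.isNoetherianRing R B
  haveI : Algebra.FiniteType B C := Algebra.FiniteType.of_restrictScalars_finiteType R B C
  haveI : Algebra.FinitePresentation B C := Algebra.FinitePresentation.of_finiteType.1 inferInstance
  haveI : LocallyOfFinitePresentation (specT B C) :=
    (LocallyOfFinitePresentation.SpecMap_iff _).2 (RingHom.finitePresentation_algebraMap.2 inferInstance)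
  obtain ⟨a, ha, hfl⟩ := exists_flatPt_basicOpen R C
  refine ⟨a, ha, ?_⟩
  have heq : fibSet SmoothPt (specT B C) (specT R B) ∩
      {q : PrimeSpectrum C | algebraMap R C a ∉ q.asIdeal} =
      ((specT B C).smoothLocus : Set ↥(Spec (CommRingCat.of C))) ∩
      (PrimeSpectrum.basicOpen (algebraMap R C a) : Set (PrimeSpectrum C)) := by
    ext q
    refine ⟨fun ⟨h1, h2⟩ => ⟨?_, h2⟩, fun ⟨h1, h2⟩ => ⟨mem_fibSet_of_pt isPtLocal_smoothPt _ _ q
      ((Descend.smooth_nhd_iff_mem_smoothLocus _ q).2 h1), h2⟩⟩
    refine (Descend.smooth_nhd_iff_mem_smoothLocus _ q).1 (smoothPt_of_flatPt_of_fibre q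
      (flatPt_of_mem_fibSet q (hfl q h2) ?_) (mem_fibSet_id isPtLocal_smoothPt _ _ q h1))
    intro z hz
    exact smoothPt_flatPt (h1 z hz)
  rw [heq]
  exact (TopologicalSpace.NoetherianSpace.isCompact _).isConstructible
    (IsOpen.inter (X := PrimeSpectrum C) (specT B C).smoothLocus.2
      (PrimeSpectrum.basicOpen (algebraMap R C a)).2)

/-- The set of points where a morphism over a base is smooth in its fibre is locally constructible. -/
theorem isLocallyConstructible_fibSet_smoothPt {X Y S : Scheme.{u}} (f : X ⟶ Y) (g : Y ⟶ S)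
    [LocallyOfFinitePresentation g] [LocallyOfFinitePresentation f] :
    IsLocallyConstructible (fibSet SmoothPt f g) :=
  isLocallyConstructible_fibSet isPtLocal_smoothPt genConstr_smoothPt f g

/-- The set of points where a morphism over a base is flat in its fibre is locally constructible. -/
theorem isLocallyConstructible_fibSet_flatPt {X Y S : Scheme.{u}} (f : X ⟶ Y) (g : Y ⟶ S)
    [LocallyOfFinitePresentation g] [LocallyOfFinitePresentation f] :
    IsLocallyConstructible (fibSet FlatPt f g) :=
  isLocallyConstructible_fibSet isPtLocal_flatPt genConstr_flatPt f g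

end Groth.Agent.FibreLocus
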